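import Mathlib.LinearAlgebra.Matrix.ConjTranspose
import Mathlib.Tactic.LinearCombination
import Mathlib.LinearAlgebra.Matrix.NonsingularInverse
import Mathlib.RingTheory.Jacobson.Ideal
import Mathlib.LinearAlgebra.Matrix.Adjugate
import Mathlib.LinearAlgebra.Matrix.Transvection
import Mathlib.GroupTheory.Perm.Cycle.Type

/-! # Congruence of hermitian matrices over a commutative ring with involution whose fixed elements
are units or in the radical, and fixed units are squares

`hermitian_normal`, `skew_normal`, `exists_scaling`.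
-/

set_option autoImplicit false
set_option linter.style.haveILetI false
set_option linter.unusedSectionVars false

open Matrix

universe u v w

namespace Groth.Agent.AzInvLib

variable {B : Type u} [CommRing B] [StarRing B]

/-- congruence of square matrices -/
def Cong {ι : Type v} [Fintype ι] [DecidableEq ι] (W W' : Matrix ι ι B) : Prop :=
  ∃ G : Matrix ι ι B, IsUnit G ∧ G * W * Gᴴ = W'

section basic

variable {ι : Type v} [Fintype ι] [DecidableEq ι] {κ : Type w} [Fintype κ] [DecidableEq κ]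

theorem Cong.refl (W : Matrix ι ι B) : Cong W W := ⟨1, isUnit_one, by simp⟩

theorem Cong.trans {W₁ W₂ W₃ : Matrix ι ι B} (h : Cong W₁ W₂) (h' : Cong W₂ W₃) : Cong W₁ W₃ := by
  obtain ⟨G, hG, h1⟩ := h
  obtain ⟨H, hH, h2⟩ := h'
  exact ⟨H * G, hH.mul hG, by rw [← h2, ← h1, conjTranspose_mul]; simp only [Matrix.mul_assoc]⟩

theorem Cong.symm {W W' : Matrix ι ι B} (h : Cong W W') : Cong W' W := by
  obtain ⟨G, ⟨g, rfl⟩, h⟩ := h
  refine ⟨↑g⁻¹, g⁻¹.isUnit, ?_⟩
  have h1 : (↑g⁻¹ : Matrix ι ι B)ᴴ = ↑(star g)⁻¹ := by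
    rw [← Matrix.star_eq_conjTranspose, ← Units.coe_star, star_inv]
  rw [← h, h1, ← Matrix.mul_assoc, ← Matrix.mul_assoc, Units.inv_mul, Matrix.one_mul,
    Matrix.mul_assoc]
  rw [show (↑g : Matrix ι ι B)ᴴ = ↑(star g) from rfl, Units.mul_inv, Matrix.mul_one]

theorem Cong.isUnit {W W' : Matrix ι ι B} (h : Cong W W') (hW : IsUnit W) : IsUnit W' := by
  obtain ⟨G, hG, rfl⟩ := h
  exact (hG.mul hW).mul hG.star

theorem Cong.conjTranspose_eq {W W' : Matrix ι ι B} (h : Cong W W') (hW : Wᴴ = W) : W'ᴴ = W' := by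
  obtain ⟨G, -, rfl⟩ := h
  simp [conjTranspose_mul, hW, Matrix.mul_assoc]

theorem Cong.conjTranspose_eq_neg {W W' : Matrix ι ι B} (h : Cong W W') (hW : Wᴴ = -W) :
    W'ᴴ = -W' := by
  obtain ⟨G, -, rfl⟩ := h
  simp [conjTranspose_mul, hW, Matrix.mul_assoc]

theorem Cong.submatrix {W W' : Matrix ι ι B} (h : Cong W W') (e : κ ≃ ι) :
    Cong (W.submatrix e e) (W'.submatrix e e) := by
  obtain ⟨G, hG, rfl⟩ := h
  refine ⟨G.submatrix e e, Matrix.isUnit_submatrix_equiv e e |>.2 hG, ?_⟩
  rw [conjTranspose_submatrix, submatrix_mul_equiv, submatrix_mul_equiv]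

theorem Cong.of_submatrix {W W' : Matrix ι ι B} (e : κ ≃ ι)
    (h : Cong (W.submatrix e e) (W'.submatrix e e)) : Cong W W' := by
  simpa using h.submatrix e.symm

theorem Cong.blocks {P P' : Matrix ι ι B} {S S' : Matrix κ κ B} (h : Cong P P') (h' : Cong S S') :
    Cong (fromBlocks P 0 0 S) (fromBlocks P' 0 0 S') := by
  obtain ⟨G, hG, rfl⟩ := h
  obtain ⟨H, hH, rfl⟩ := h'
  obtain ⟨g, rfl⟩ := hG
  obtain ⟨k, rfl⟩ := hH
  refine ⟨fromBlocks g 0 0 k, ?_, by simp [fromBlocks_conjTranspose, fromBlocks_multiply]⟩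
  have h1 : ∀ {g : (Matrix ι ι B)ˣ} {k : (Matrix κ κ B)ˣ},
      fromBlocks (g : Matrix ι ι B) 0 0 (k : Matrix κ κ B) *
        fromBlocks (↑g⁻¹ : Matrix ι ι B) 0 0 (↑k⁻¹ : Matrix κ κ B) = 1 := fun {g k} => by
    rw [fromBlocks_multiply]
    simp only [Units.mul_inv, Matrix.mul_zero, Matrix.zero_mul, add_zero, zero_add, fromBlocks_one]
  exact ⟨⟨_, _, h1, by simpa using h1 (g := g⁻¹) (k := k⁻¹)⟩, rfl⟩

/-- Schur complement -/
theorem cong_schur (P : Matrix ι ι B) (Q : Matrix ι κ B) (Q' : Matrix κ ι B) (R : Matrix κ κ B)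
    (P' : Matrix ι ι B) (hP : P * P' = 1) (hQ : (Q' * P')ᴴ = P' * Q) :
    Cong (fromBlocks P Q Q' R) (fromBlocks P 0 0 (R - Q' * P' * Q)) := by
  have hP' : P' * P = 1 := mul_eq_one_comm.1 hP
  have h1 : ∀ N : Matrix κ ι B, fromBlocks (1 : Matrix ι ι B) 0 (-N) (1 : Matrix κ κ B) *
      fromBlocks 1 0 N 1 = 1 := fun N => by
    rw [fromBlocks_multiply]
    simp only [Matrix.mul_zero, Matrix.zero_mul, add_zero, zero_add, Matrix.mul_one, Matrix.one_mul,
      neg_add_cancel, fromBlocks_one]
  refine ⟨fromBlocks 1 0 (-(Q' * P')) 1,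
    ⟨⟨_, _, h1 (Q' * P'), mul_eq_one_comm.1 (h1 _)⟩, rfl⟩, ?_⟩
  simp only [fromBlocks_conjTranspose, conjTranspose_one, conjTranspose_zero, conjTranspose_neg,
    hQ, fromBlocks_multiply, Matrix.one_mul, Matrix.zero_mul, add_zero, Matrix.mul_one,
    Matrix.mul_zero, Matrix.neg_mul, Matrix.mul_neg]
  congr 1
  · rw [← Matrix.mul_assoc, hP, Matrix.one_mul, neg_add_cancel]
  · rw [Matrix.mul_assoc, hP', Matrix.mul_one, neg_add_cancel]
  · rw [Matrix.mul_assoc Q', hP', Matrix.mul_one, neg_add_cancel, Matrix.zero_mul, neg_zero,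
      zero_add, sub_eq_add_neg, add_comm]

theorem isUnit_snd_of_blocks {P : Matrix ι ι B} {S : Matrix κ κ B}
    (h : IsUnit (fromBlocks P 0 0 S)) : IsUnit S := by
  rw [Matrix.isUnit_iff_isUnit_det, det_fromBlocks_zero₁₂] at h
  exact (Matrix.isUnit_iff_isUnit_det _).2 (isUnit_of_mul_isUnit_right h)

theorem snd_conjTranspose {P : Matrix ι ι B} {S : Matrix κ κ B} {c : B}
    (h : (fromBlocks P 0 0 S)ᴴ = c • fromBlocks P 0 0 S) : Sᴴ = c • S := by
  rw [fromBlocks_conjTranspose, fromBlocks_smul] at h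
  exact (fromBlocks_inj.1 h).2.2.2

/-- adding `a` times row `j` to row `i` -/
theorem cong_transvection (W : Matrix ι ι B) (i j : ι) (hij : i ≠ j) (a : B) :
    ∃ W' : Matrix ι ι B, Cong W W' ∧
      W' i i = W i i + a * W j i + star a * W i j + a * star a * W j j ∧
      (∀ k, k ≠ i → W' i k = W i k + a * W j k) ∧
      (∀ k, k ≠ i → W' k i = W k i + star a * W k j) ∧
      (∀ k l, k ≠ i → l ≠ i → W' k l = W k l) := by
  refine ⟨transvection i j a * W * (transvection i j a)ᴴ, ⟨_, ?_, rfl⟩, ?_⟩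
  · rw [Matrix.isUnit_iff_isUnit_det, det_transvection_of_ne i j hij]
    exact isUnit_one
  have hT : (transvection i j a)ᴴ = transvection j i (star a) := by
    simp [transvection, conjTranspose_single]
  rw [hT]
  refine ⟨?_, fun k hk => ?_, fun k hk => ?_, fun k l hk hl => ?_⟩
  · rw [mul_transvection_apply_same, transvection_mul_apply_same, transvection_mul_apply_same]
    ring
  · rw [mul_transvection_apply_of_ne _ _ _ _ hk, transvection_mul_apply_same]
  · rw [mul_transvection_apply_same, transvection_mul_apply_of_ne _ _ _ _ hk,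
      transvection_mul_apply_of_ne _ _ _ _ hk]
  · rw [mul_transvection_apply_of_ne _ _ _ _ hl, transvection_mul_apply_of_ne _ _ _ _ hk]

end basic

section field

/-- an invertible alternating matrix has even size -/
theorem det_eq_zero_of_alternating {k : Type u} [CommRing k] {ι : Type v} [Fintype ι] [DecidableEq ι]
    (hι : Odd (Fintype.card ι)) (A : Matrix ι ι k) (h : ∀ i j, A j i = -A i j) (hd : ∀ i, A i i = 0) :
    A.det = 0 := by
  classical
  rw [Matrix.det_apply']
  refine Finset.sum_involution (fun σ _ => σ⁻¹) (fun σ _ => ?_) (fun σ _ hne heq => ?_)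
    (fun σ _ => Finset.mem_univ _) (fun σ _ => inv_inv σ)
  · have h1 : ∏ i, A (σ⁻¹ i) i = -(∏ i, A (σ i) i) := by
      calc ∏ i, A (σ⁻¹ i) i = ∏ i, A (σ⁻¹ (σ i)) (σ i) := (Equiv.prod_comp σ fun i => A (σ⁻¹ i) i).symm
        _ = ∏ i, -A (σ i) i := Finset.prod_congr rfl fun i _ => by rw [Equiv.Perm.inv_def, Equiv.symm_apply_apply]; exact h _ _
        _ = _ := by rw [Finset.prod_neg, Finset.card_univ, Odd.neg_one_pow hι, neg_one_mul]
    rw [Equiv.Perm.sign_inv, h1]
    ring
  · apply hne
    have h2 : σ ^ 2 = 1 := by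
      rw [sq]
      calc σ * σ = σ⁻¹ * σ := by rw [heq]
        _ = 1 := inv_mul_cancel σ
    haveI : Fact (Nat.Prime 2) := ⟨Nat.prime_two⟩
    obtain ⟨i, hi⟩ := Equiv.Perm.exists_fixed_point_of_prime (p := 2) (n := 1)
      (fun hd => (Nat.not_even_iff_odd.2 hι) (even_iff_two_dvd.2 hd)) (σ := σ) (by simpa using h2)
    rw [Finset.prod_eq_zero (Finset.mem_univ i) (by rw [hi, hd]), mul_zero]

end field

/-- the hypotheses on a ring with involution: fixed elements are units or in the radical, and fixed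
units are squares of fixed elements -/
structure Good (B : Type u) [CommRing B] [StarRing B] : Prop where
  dich : ∀ b : B, star b = b → IsUnit b ∨ b ∈ Ideal.jacobson (⊥ : Ideal B)
  sqrt : ∀ b : B, star b = b → IsUnit b → ∃ y : B, star y = y ∧ y * y = b
  nontriv : Nontrivial B

namespace Good

variable (hB : Good B)
include hB

theorem not_isUnit {b : B} (h : b ∈ Ideal.jacobson (⊥ : Ideal B)) : ¬ IsUnit b := fun hu => by
  haveI := hB.nontriv
  have : Ideal.jacobson (⊥ : Ideal B) = ⊤ := Ideal.eq_top_of_isUnit_mem _ h hu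
  rw [Ideal.jacobson_eq_top_iff] at this
  exact bot_ne_top this

theorem mem_of_not_isUnit {b : B} (hb : star b = b) (h : ¬ IsUnit b) :
    b ∈ Ideal.jacobson (⊥ : Ideal B) := (hB.dich b hb).resolve_left h

theorem isUnit_add {a r : B} (ha : IsUnit a) (hr : r ∈ Ideal.jacobson (⊥ : Ideal B)) :
    IsUnit (a + r) := by
  obtain ⟨a, rfl⟩ := ha
  have := Ideal.mem_jacobson_bot.1 hr (↑a⁻¹)
  rw [show (↑a : B) + r = ↑a * (r * ↑a⁻¹ + 1) by rw [mul_add, mul_one, mul_left_comm, Units.mul_inv, mul_one, add_comm]]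
  exact a.isUnit.mul this

theorem mem_of_trace_norm {x : B} (ht : x + star x ∈ Ideal.jacobson (⊥ : Ideal B))
    (hn : x * star x ∈ Ideal.jacobson (⊥ : Ideal B)) : x ∈ Ideal.jacobson (⊥ : Ideal B) := by
  have h2 : x * x ∈ Ideal.jacobson (⊥ : Ideal B) := by
    rw [show x * x = (x + star x) * x - x * star x by ring]
    exact sub_mem (Ideal.mul_mem_right _ _ ht) hn
  refine Ideal.mem_sInf.2 fun {M} hM => ?_
  exact (hM.2.isPrime.mem_or_mem (Ideal.mem_sInf.1 h2 hM)).elim id id

theorem isUnit_of_not_mem_norm {x : B} (hn : x * star x ∉ Ideal.jacobson (⊥ : Ideal B)) : IsUnit x :=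
  isUnit_of_mul_isUnit_left ((hB.dich _ (by rw [star_mul', star_star, mul_comm])).resolve_right hn)

theorem star_mem {x : B} (h : x ∈ Ideal.jacobson (⊥ : Ideal B)) :
    star x ∈ Ideal.jacobson (⊥ : Ideal B) := by
  rw [Ideal.mem_jacobson_bot] at h ⊢
  intro y
  have := (h (star y)).star
  rwa [star_add, star_mul', star_star, star_one] at this

/-- if a trace is a unit, off-radical elements can be completed to unit traces -/
theorem exists_trace_unit {b₀ : B} (hb₀ : IsUnit (b₀ + star b₀)) {x : B}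
    (hx : x ∉ Ideal.jacobson (⊥ : Ideal B)) : ∃ c, IsUnit (c * x + star (c * x)) := by
  by_contra h
  push Not at h
  have hm : ∀ c, c * x + star (c * x) ∈ Ideal.jacobson (⊥ : Ideal B) := fun c =>
    hB.mem_of_not_isUnit (by rw [star_add, star_star, add_comm]) (h c)
  refine hx (hB.mem_of_trace_norm (by simpa using hm 1) ?_)
  have h1 := hm (b₀ * star x)
  rw [show b₀ * star x * x + star (b₀ * star x * x) = (b₀ + star b₀) * (x * star x) by
    simp only [star_mul', star_star]; ring] at h1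
  obtain ⟨v, hv⟩ := hb₀
  rw [← hv] at h1
  simpa [← mul_assoc] using Ideal.mul_mem_left _ (↑v⁻¹ : B) h1

variable {ι : Type v} [Fintype ι] [DecidableEq ι]

theorem exists_not_mem_row {W : Matrix ι ι B} (hW : IsUnit W) (i : ι) :
    ∃ j, W i j ∉ Ideal.jacobson (⊥ : Ideal B) := by
  by_contra h
  push Not at h
  obtain ⟨w, rfl⟩ := hW
  have h1 : ((w : Matrix ι ι B) * (↑w⁻¹ : Matrix ι ι B)) i i = 1 := by
    rw [Units.mul_inv, Matrix.one_apply_eq]
  rw [Matrix.mul_apply] at h1
  exact hB.not_isUnit (Submodule.sum_mem _ fun j _ => Ideal.mul_mem_right _ _ (h j)) (h1 ▸ isUnit_one)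

theorem odd_exists_diag {W : Matrix ι ι B} (hW : IsUnit W) (hsym : Wᴴ = W)
    (hno : ∀ b : B, ¬ IsUnit (b + star b)) (hodd : Odd (Fintype.card ι)) :
    ∃ i, IsUnit (W i i) := by
  by_contra h
  push Not at h
  haveI := hB.nontriv
  obtain ⟨M, hM⟩ := Ideal.exists_maximal B
  have hle : Ideal.jacobson (⊥ : Ideal B) ≤ M := sInf_le ⟨bot_le, hM⟩
  let q := Ideal.Quotient.mk M
  have hst : ∀ b : B, q (star b) = -q b := fun b => by
    rw [← sub_eq_zero, sub_neg_eq_add, ← map_add, Ideal.Quotient.eq_zero_iff_mem, add_comm]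
    exact hle (hB.mem_of_not_isUnit (by rw [star_add, star_star, add_comm]) (hno b))
  have h0 := det_eq_zero_of_alternating hodd (W.map q) (fun i j => by
      rw [Matrix.map_apply, Matrix.map_apply, ← hst]
      exact congrArg q (congrFun (congrFun hsym j) i).symm) fun i => by
    rw [Matrix.map_apply, Ideal.Quotient.eq_zero_iff_mem]
    exact hle (hB.mem_of_not_isUnit (congrFun (congrFun hsym i) i) (h i))
  have h1 := ((Matrix.isUnit_iff_isUnit_det _).1 hW).map q
  rw [RingHom.map_det, RingHom.mapMatrix_apply, h0] at h1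
  exact hM.ne_top (Ideal.Quotient.subsingleton_iff.1 (subsingleton_of_zero_eq_one (isUnit_zero_iff.1 h1)))

theorem exists_cong_diag_unit {W : Matrix ι ι B} (hW : IsUnit W) (hsym : Wᴴ = W) (i : ι)
    {b₀ : B} (hb₀ : IsUnit (b₀ + star b₀)) :
    ∃ W', Cong W W' ∧ ∃ j, IsUnit (W' j j) := by
  by_cases hd : ∃ j, IsUnit (W j j)
  · exact ⟨W, Cong.refl _, hd⟩
  push Not at hd
  have hdm : ∀ j, W j j ∈ Ideal.jacobson (⊥ : Ideal B) := fun j =>
    hB.mem_of_not_isUnit (congrFun (congrFun hsym j) j) (hd j)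
  obtain ⟨j, hj⟩ := hB.exists_not_mem_row hW i
  have hij : j ≠ i := by rintro rfl; exact hj (hdm _)
  obtain ⟨c, hc⟩ := hB.exists_trace_unit hb₀ hj
  obtain ⟨W', hWW', h1, -⟩ := cong_transvection W i j hij.symm (star c)
  refine ⟨W', hWW', i, ?_⟩
  have hji : W j i = star (W i j) := (congrFun (congrFun hsym j) i).symm
  rw [h1, hji, star_star, show W i i + star c * star (W i j) + c * W i j + star c * c * W j j =
    (c * W i j + star (c * W i j)) + (W i i + star c * c * W j j) by rw [star_mul']; ring]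
  exact hB.isUnit_add hc (add_mem (hdm i) (Ideal.mul_mem_left _ _ (hdm j)))

theorem cong_one_of_diag (n : ℕ) : ∀ {ι : Type v} [Fintype ι] [DecidableEq ι] (W : Matrix ι ι B),
    Fintype.card ι = n → IsUnit W → Wᴴ = W → (∀ _ : ι, ∃ i, IsUnit (W i i)) → Cong W 1 := by
  induction n with
  | zero =>
    intro ι _ _ W hc _ _ _
    haveI : IsEmpty ι := Fintype.card_eq_zero_iff.1 hc
    exact (Subsingleton.elim W 1) ▸ Cong.refl _
  | succ n ih =>
    intro ι _ _ W hc hW hsym hd
    obtain ⟨i₀⟩ : Nonempty ι := Fintype.card_pos_iff.1 (by omega)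
    obtain ⟨i, hi⟩ := hd i₀
    let κ := {j : ι // ¬ j = i}
    let e : Unit ⊕ κ ≃ ι := ((Equiv.ofUnique Unit {j : ι // j = i}).sumCongr (Equiv.refl _)).trans
      (Equiv.sumCompl fun j => j = i)
    have hel : e (Sum.inl ()) = i := rfl
    have her : ∀ j : κ, e (Sum.inr j) = j := fun j => rfl
    have hκ : Fintype.card κ = n := by
      have := Fintype.card_congr e
      simp at this
      omega
    -- Schur complement with respect to a unit diagonal entry
    have step : ∀ V : Matrix ι ι B, IsUnit V → Vᴴ = V → IsUnit (V i i) →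
        ∃ S : Matrix κ κ B, IsUnit S ∧ Sᴴ = S ∧
          (∀ j k : κ, S j k = V j k - V j i * Ring.inverse (V i i) * V i k) ∧
          (∀ S', Cong S S' → (∀ _ : κ, ∃ j, IsUnit (S' j j)) → Cong V 1) := by
      intro V hV hVs hVi
      obtain ⟨a, ha⟩ := hVi
      have hsa : star (↑a⁻¹ : B) = ↑a⁻¹ := by
        have h : star (V i i) = V i i := congrFun (congrFun hVs i) i
        rw [← ha] at h
        rw [← Units.coe_star_inv, show star a = a from Units.ext h]
      let P : Matrix Unit Unit B := Matrix.of fun _ _ => V i i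
      let Q : Matrix Unit κ B := Matrix.of fun _ k => V i k
      let Q' : Matrix κ Unit B := Matrix.of fun j _ => V j i
      let R : Matrix κ κ B := Matrix.of fun j k => V j k
      let P' : Matrix Unit Unit B := Matrix.of fun _ _ => (↑a⁻¹ : B)
      have hP : P * P' = 1 := by ext x y; simp [P, P', Matrix.mul_apply, ← ha]
      have hQ : (Q' * P')ᴴ = P' * Q := by
        ext x k
        simp only [Matrix.conjTranspose_apply, Matrix.mul_apply, Q', Q, P', Matrix.of_apply,
          Finset.univ_unique, Finset.sum_singleton, star_mul', hsa]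
        rw [show star (V k i) = V i k from congrFun (congrFun hVs i) k]
        ring
      have hVe : V.submatrix e e = fromBlocks P Q Q' R := by
        ext (_ | _) (_ | _) <;> rfl
      have hcong := hVe.symm ▸ cong_schur P Q Q' R P' hP hQ
      have hSU := isUnit_snd_of_blocks (hcong.isUnit ((Matrix.isUnit_submatrix_equiv e e).2 hV))
      have hSs : (R - Q' * P' * Q)ᴴ = (1 : B) • (R - Q' * P' * Q) := snd_conjTranspose
        (by rw [one_smul]; exact hcong.conjTranspose_eq (by rw [conjTranspose_submatrix, hVs]))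
      refine ⟨_, hSU, by simpa using hSs, fun j k => ?_, fun S' hSS' hdiag => ?_⟩
      · simp [R, Q, Q', P', Matrix.mul_apply, ← ha]
      · obtain ⟨y, hys, hy⟩ := hB.sqrt (V i i) (congrFun (congrFun hVs i) i) ⟨a, ha⟩
        obtain ⟨y, rfl⟩ : IsUnit y := isUnit_of_mul_isUnit_left (show IsUnit (y * y) by rw [hy]; exact ⟨a, ha⟩)
        have hy' : star (↑y⁻¹ : B) = ↑y⁻¹ := by
          rw [← Units.coe_star_inv, show star y = y from Units.ext hys]
        have hPc : Cong P 1 := ⟨Matrix.of fun _ _ => (↑y⁻¹ : B),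
          (Matrix.isUnit_iff_isUnit_det _).2 (by simp), by
            ext x z; simp [P, Matrix.mul_apply, hy', ← hy]⟩
        have h2 := hcong.trans (Cong.blocks hPc (hSS'.trans (ih S' hκ (hSS'.isUnit hSU)
          (hSS'.conjTranspose_eq (by simpa using hSs)) hdiag)))
        rw [fromBlocks_one] at h2
        refine Cong.of_submatrix e ?_
        rw [hVe, Matrix.submatrix_one_equiv]
        simpa only [hVe] using h2
    obtain ⟨S, hSU, hSs, hS, hfin⟩ := step W hW hsym hi
    by_cases hgood : ∀ _ : κ, ∃ j, IsUnit (S j j)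
    · exact hfin S (Cong.refl _) hgood
    push Not at hgood
    obtain ⟨k₀, hSd⟩ := hgood
    by_cases htr : ∃ b : B, IsUnit (b + star b)
    · obtain ⟨b₀, hb₀⟩ := htr
      obtain ⟨S', hSS', hj⟩ := hB.exists_cong_diag_unit hSU hSs k₀ hb₀
      exact hfin S' hSS' fun _ => hj
    push Not at htr
    have hSm : ∀ j, S j j ∈ Ideal.jacobson (⊥ : Ideal B) := fun j =>
      hB.mem_of_not_isUnit (congrFun (congrFun hSs j) j) (hSd j)
    obtain ⟨j₀, hj₀⟩ := hB.exists_not_mem_row hSU k₀
    have hjk : j₀ ≠ k₀ := by rintro rfl; exact hj₀ (hSm _)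
    -- mix `k₀` into the unit entry
    obtain ⟨a, ha⟩ := hi
    let P : Matrix Unit Unit B := Matrix.of fun _ _ => W i i
    let V : Matrix ι ι B := (fromBlocks P 0 0 S).submatrix e.symm e.symm
    have hWV : Cong W V := by
      refine Cong.of_submatrix e ?_
      have hV' : V.submatrix e e = fromBlocks P 0 0 S := by ext x y; simp [V]
      rw [hV']
      have hWe : W.submatrix e e = fromBlocks P (Matrix.of fun (_ : Unit) (k : κ) => W i k)
          (Matrix.of fun (j : κ) _ => W j i) (Matrix.of fun j k : κ => W j k) := by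
        ext (_ | _) (_ | _) <;> rfl
      have hS' : S = (Matrix.of fun j k : κ => W j k) - (Matrix.of fun (j : κ) (_ : Unit) => W j i) *
          (Matrix.of fun _ _ : Unit => (↑a⁻¹ : B)) * (Matrix.of fun (_ : Unit) (k : κ) => W i k) := by
        ext j k
        rw [hS j k, ← ha]
        simp [Matrix.mul_apply]
      rw [hWe, hS']
      refine cong_schur _ _ _ _ _ (by ext x y; simp [P, Matrix.mul_apply, ← ha]) ?_
      have hsa : star (↑a⁻¹ : B) = ↑a⁻¹ := by
        have h : star (W i i) = W i i := congrFun (congrFun hsym i) i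
        rw [← ha] at h
        rw [← Units.coe_star_inv, show star a = a from Units.ext h]
      ext x k
      simp only [Matrix.conjTranspose_apply, Matrix.mul_apply, Matrix.of_apply,
        Finset.univ_unique, Finset.sum_singleton, star_mul', hsa]
      rw [show star (W k i) = W i k from congrFun (congrFun hsym i) k]
      ring
    have hes : e.symm i = Sum.inl () := e.symm_apply_eq.2 hel.symm
    have her' : ∀ k : κ, e.symm k = Sum.inr k := fun k => e.symm_apply_eq.2 (her k).symm
    have hVii : V i i = W i i := by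
      show fromBlocks P 0 0 S (e.symm i) (e.symm i) = _
      rw [hes]; rfl
    have hVij : ∀ k : κ, V i k = 0 ∧ V k i = 0 := fun k => by
      constructor
      · show fromBlocks P 0 0 S (e.symm i) (e.symm k) = _
        rw [hes, her' k]; rfl
      · show fromBlocks P 0 0 S (e.symm k) (e.symm i) = _
        rw [hes, her' k]; rfl
    have hVjk : ∀ j k : κ, V j k = S j k := fun j k => by
      show fromBlocks P 0 0 S (e.symm j) (e.symm k) = _
      rw [her' j, her' k]; rfl
    obtain ⟨V', hVV', h1, h2, h3, h4⟩ := cong_transvection V i k₀ (Ne.symm k₀.2) 1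
    have hV'U := hVV'.isUnit (hWV.isUnit hW)
    have hV's := hVV'.conjTranspose_eq (hWV.conjTranspose_eq hsym)
    have hV'i : IsUnit (V' i i) := by
      rw [h1, hVii, (hVij k₀).1, (hVij k₀).2, hVjk, star_one, one_mul, one_mul, one_mul, add_zero,
        add_zero]
      exact hB.isUnit_add ⟨a, ha⟩ (hSm k₀)
    obtain ⟨S₂, -, -, hS₂, hfin₂⟩ := step V' hV'U hV's hV'i
    refine (hWV.trans hVV').trans (hfin₂ S₂ (Cong.refl _) fun _ => ⟨j₀, ?_⟩)
    rw [hS₂, h4 j₀ j₀ j₀.2 j₀.2, h2 j₀ j₀.2, h3 j₀ j₀.2, (hVij j₀).1, (hVij j₀).2, hVjk, hVjk, hVjk,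
      star_one, one_mul, one_mul, zero_add, zero_add, sub_eq_add_neg, add_comm]
    refine hB.isUnit_add (IsUnit.neg ?_) (hSm j₀)
    rw [show S j₀ k₀ = star (S k₀ j₀) from (congrFun (congrFun hSs j₀) k₀).symm]
    have hn : S k₀ j₀ * star (S k₀ j₀) ∉ Ideal.jacobson (⊥ : Ideal B) := fun hn => hj₀
      (hB.mem_of_trace_norm (hB.mem_of_not_isUnit (by rw [star_add, star_star, add_comm]) (htr _)) hn)
    have hu := hB.isUnit_of_not_mem_norm hn
    obtain ⟨v, hv⟩ := hV'i
    exact ((hu.star).mul (by rw [← hv, Ring.inverse_unit]; exact (v⁻¹).isUnit)).mul hu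

end Good

theorem cong_perm {ι : Type v} [Fintype ι] [DecidableEq ι] (W : Matrix ι ι B) (σ : ι ≃ ι) :
    Cong W (W.submatrix σ σ) := by
  refine ⟨(1 : Matrix ι ι B).submatrix σ id, (Matrix.isUnit_submatrix_equiv σ (Equiv.refl ι)).2 isUnit_one, ?_⟩
  ext i j
  simp [Matrix.mul_apply, Matrix.one_apply, apply_ite (star : B → B)]

/-- the standard alternating matrix, with `J i (i+1) = 1` for even `i` -/
def skewStd (R : Type u) [Ring R] (n : ℕ) : Matrix (Fin n) (Fin n) R := Matrix.of fun i j =>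
  if (j : ℕ) = i + 1 ∧ Even (i : ℕ) then 1 else if (i : ℕ) = j + 1 ∧ Even (j : ℕ) then -1 else 0

theorem skewStd_two (R : Type u) [Ring R] : skewStd R 2 = !![0, 1; -1, 0] := by
  ext i j
  fin_cases i <;> fin_cases j <;> simp [skewStd]

theorem skewStd_add_two (R : Type u) [Ring R] (m : ℕ) :
    (skewStd R (2 + m)).submatrix finSumFinEquiv finSumFinEquiv =
      fromBlocks !![0, 1; -1, 0] 0 0 (skewStd R m) := by
  ext (i | i) (j | j)
  · rw [← skewStd_two]; simp [skewStd]
  · fin_cases i <;> simp [skewStd] <;> intros <;> omega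
  · fin_cases j <;> simp [skewStd] <;> intros <;> omega
  · simp only [submatrix_apply, finSumFinEquiv_apply_right, skewStd, Matrix.of_apply,
      fromBlocks_apply₂₂, Fin.val_natAdd]
    have h1 : ∀ a : ℕ, Even (2 + a) ↔ Even a := fun a => by simp [Nat.even_add]
    simp only [h1, show ∀ a b : ℕ, (2 + a = 2 + b + 1) ↔ a = b + 1 from fun a b => by omega]

theorem skewStd_map (R : Type u) [CommRing R] {R' : Type w} [CommRing R'] (f : R →+* R') (n : ℕ) :
    (skewStd R n).map f = skewStd R' n := by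
  ext i j
  simp only [skewStd, Matrix.map_apply, Matrix.of_apply]
  split_ifs <;> simp

namespace Good

variable (hB : Good B) (h2 : IsUnit (2 : B)) (hanti : ∀ d : B, star d = -d → ¬ IsUnit d)
include hB h2 hanti

theorem anti_mem {d : B} (hd : star d = -d) : d ∈ Ideal.jacobson (⊥ : Ideal B) := by
  have h : d * d ∈ Ideal.jacobson (⊥ : Ideal B) := hB.mem_of_not_isUnit
    (by rw [star_mul', hd, neg_mul_neg]) fun hu => hanti d hd (isUnit_of_mul_isUnit_left hu)
  exact Ideal.mem_sInf.2 fun {M} hM => (hM.2.isPrime.mem_or_mem (Ideal.mem_sInf.1 h hM)).elim id id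

theorem local_dich (b : B) : IsUnit b ∨ b ∈ Ideal.jacobson (⊥ : Ideal B) := by
  by_cases hn : b * star b ∈ Ideal.jacobson (⊥ : Ideal B)
  · right
    have ha := hB.anti_mem h2 hanti (d := b - star b) (by rw [star_sub, star_star, neg_sub])
    have h : b * b ∈ Ideal.jacobson (⊥ : Ideal B) := by
      rw [show b * b = b * (b - star b) + b * star b by ring]
      exact add_mem (Ideal.mul_mem_left _ _ ha) hn
    exact Ideal.mem_sInf.2 fun {M} hM => (hM.2.isPrime.mem_or_mem (Ideal.mem_sInf.1 h hM)).elim id id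
  · exact Or.inl (hB.isUnit_of_not_mem_norm hn)

theorem cong_hyperbolic (P : Matrix (Fin 2) (Fin 2) B) (hP : Pᴴ = -P) (ha : IsUnit (P 0 1)) :
    Cong P !![0, 1; -1, 0] := by
  obtain ⟨a, ha⟩ := ha
  have h10 : P 1 0 = -star (↑a : B) := by
    have h := congrFun (congrFun hP 1) 0
    simp only [Matrix.conjTranspose_apply, Matrix.neg_apply, ← ha] at h
    rw [h, neg_neg]
  have h00 : star (P 0 0) = -P 0 0 := congrFun (congrFun hP 0) 0
  have h11 : star (P 1 1) = -P 1 1 := congrFun (congrFun hP 1) 1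
  -- normalise the corner entries
  set δ := P 0 0
  set η := (↑a⁻¹ : B) * star (↑a⁻¹ : B) * P 1 1 with hη
  have hηs : star η = -η := by rw [hη, star_mul', star_mul', star_star, h11]; ring
  have c1 : Cong P !![δ, 1; -1, η] := by
    refine ⟨!![1, 0; 0, star (↑a⁻¹ : B)], (Matrix.isUnit_iff_isUnit_det _).2 (by
      rw [Matrix.det_fin_two_of]; simp), ?_⟩
    ext i j
    fin_cases i <;> fin_cases j
    · simp [Matrix.mul_apply, Matrix.vecMul, dotProduct, Fin.sum_univ_two, δ]
    · simp [Matrix.mul_apply, Matrix.vecMul, dotProduct, Fin.sum_univ_two, ← ha]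
    · simp [Matrix.mul_apply, Matrix.vecMul, dotProduct, Fin.sum_univ_two, h10, ← star_mul']
    · simp [Matrix.mul_apply, Matrix.vecMul, dotProduct, Fin.sum_univ_two, hη]; ring
  have hDs : star (1 + δ * η) = 1 + δ * η := by rw [star_add, star_one, star_mul', h00, hηs]; ring
  have hDu : IsUnit (1 + δ * η) :=
    hB.isUnit_add isUnit_one (Ideal.mul_mem_left _ _ (hB.anti_mem h2 hanti hηs))
  obtain ⟨y, hys, hy⟩ := hB.sqrt _ hDs hDu
  -- choose the root with `1 + y` a unit
  obtain ⟨y, hys, hy, hyu⟩ : ∃ y : B, star y = y ∧ y * y = 1 + δ * η ∧ IsUnit (1 + y) := by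
    rcases hB.dich (1 + y) (by rw [star_add, star_one, hys]) with h | h
    · exact ⟨y, hys, hy, h⟩
    refine ⟨-y, by rw [star_neg, hys], by rw [neg_mul_neg, hy], ?_⟩
    rw [show 1 + -y = 2 + -(1 + y) by ring]
    exact hB.isUnit_add h2 (neg_mem h)
  obtain ⟨v, hv⟩ := hyu
  have hvs : star (↑v⁻¹ : B) = ↑v⁻¹ := by
    rw [← Units.coe_star_inv, show star v = v from Units.ext (by rw [Units.coe_star, hv, star_add, star_one, hys])]
  set x := δ * ↑v⁻¹ with hx
  have hxs : star x = -x := by rw [hx, star_mul', h00, hvs]; ring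
  have hiso : δ - 2 * x - η * x * x = 0 := by
    have h : (δ - 2 * x - η * x * x) * (↑v * ↑v) = 0 := by
      have e1 : x * ↑v = δ := by rw [hx, mul_assoc, Units.inv_mul, mul_one]
      calc _ = δ * ↑v * ↑v - 2 * (x * ↑v) * ↑v - η * (x * ↑v) * (x * ↑v) := by ring
        _ = _ := by rw [e1, hv]; linear_combination δ * hy
    exact ((v * v).isUnit.mul_left_eq_zero).1 (by simpa [mul_assoc] using h)
  clear_value x η δ
  have hw : IsUnit (1 + x * η) := hB.isUnit_add isUnit_one
    (Ideal.mul_mem_left _ _ (hB.anti_mem h2 hanti hηs))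
  obtain ⟨w, hw⟩ := hw
  have hws : star (1 + x * η) = 1 + x * η := by rw [star_add, star_one, star_mul', hxs, hηs]; ring
  have hws' : star (↑w⁻¹ : B) = ↑w⁻¹ := by
    rw [← Units.coe_star_inv, show star w = w from Units.ext (by rw [Units.coe_star, hw, hws])]
  set η' := (↑w⁻¹ : B) * ↑w⁻¹ * η
  have c2 : Cong !![δ, 1; -1, η] !![0, 1; -1, η'] := by
    refine ⟨!![1, x; 0, ↑w⁻¹], (Matrix.isUnit_iff_isUnit_det _).2 (by
      rw [Matrix.det_fin_two_of]; simp), ?_⟩
    have hwi : (↑w⁻¹ : B) * (1 + x * η) = 1 := by rw [← hw, Units.inv_mul]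
    ext i j
    fin_cases i <;> fin_cases j <;>
      simp [Matrix.mul_apply, Matrix.vecMul, dotProduct, Fin.sum_univ_two, hxs, hws', η'] <;>
      first
        | linear_combination hiso
        | linear_combination hwi
        | linear_combination -hwi
        | linear_combination hw
        | linear_combination -hw
        | ring
  obtain ⟨t, ht⟩ := h2
  have hts : star (↑t⁻¹ : B) = ↑t⁻¹ := by
    rw [← Units.coe_star_inv, show star t = t from Units.ext (by rw [Units.coe_star, ht]; simp)]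
  have hη's : star η' = -η' := by simp only [η', star_mul', hws', hηs]; ring
  have c3 : Cong !![0, 1; -1, η'] !![0, 1; -1, 0] := by
    refine ⟨!![1, 0; -(↑t⁻¹ * η'), 1], (Matrix.isUnit_iff_isUnit_det _).2 (by
      rw [Matrix.det_fin_two_of]; simp), ?_⟩
    have hti : (↑t⁻¹ : B) * 2 = 1 := by rw [← ht, Units.inv_mul]
    ext i j
    fin_cases i <;> fin_cases j <;>
      simp [Matrix.mul_apply, Fin.sum_univ_two, star_mul', hts, hη's]
    linear_combination (-η') * hti
  exact c1.trans (c2.trans c3)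

theorem skew_normal : ∀ (n : ℕ) (W : Matrix (Fin n) (Fin n) B), IsUnit W → Wᴴ = -W →
    Even n ∧ Cong W (skewStd B n)
  | 0, W, _, _ => ⟨Even.zero, Subsingleton.elim W (skewStd B 0) ▸ Cong.refl _⟩
  | n + 1, W, hW, hskew => by
    obtain ⟨j, hj⟩ := hB.exists_not_mem_row hW (0 : Fin (n + 1))
    have hdiag : ∀ i, W i i ∈ Ideal.jacobson (⊥ : Ideal B) := fun i =>
      hB.anti_mem h2 hanti (congrFun (congrFun hskew i) i)
    have hj0 : j ≠ 0 := by rintro rfl; exact hj (hdiag _)
    match n, W, hW, hskew, j, hj, hj0 with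
    | 0, _, _, _, j, _, hj0 => exact absurd (Subsingleton.elim (α := Fin 1) j 0) hj0
    | m + 1, W, hW, hskew, j, hj, hj0 =>
      have hu := (hB.local_dich h2 hanti _).resolve_right hj
      let σ : Fin (m + 2) ≃ Fin (m + 2) := Equiv.swap 1 j
      have hσ0 : σ 0 = 0 := Equiv.swap_apply_of_ne_of_ne (by simp [Fin.ext_iff]) hj0.symm
      let e : Fin 2 ⊕ Fin m ≃ Fin (m + 2) := finSumFinEquiv.trans (finCongr (add_comm 2 m))
      let V := (W.submatrix σ σ).submatrix e e
      have hV : IsUnit V := (Matrix.isUnit_submatrix_equiv e e).2 ((Matrix.isUnit_submatrix_equiv σ σ).2 hW)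
      have hVs : Vᴴ = -V := by
        ext a b; exact congrFun (congrFun hskew (σ (e a))) (σ (e b))
      have hVb : V = fromBlocks V.toBlocks₁₁ V.toBlocks₁₂ V.toBlocks₂₁ V.toBlocks₂₂ :=
        (fromBlocks_toBlocks V).symm
      have hP : V.toBlocks₁₁ᴴ = -V.toBlocks₁₁ := by
        ext a b; exact congrFun (congrFun hVs (Sum.inl a)) (Sum.inl b)
      have h01 : V.toBlocks₁₁ 0 1 = W 0 j := by
        show W (σ (e (Sum.inl 0))) (σ (e (Sum.inl 1))) = _
        have e0 : e (Sum.inl 0) = 0 := Fin.ext (by simp [e])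
        have e1 : e (Sum.inl 1) = 1 := Fin.ext (by simp [e])
        rw [e0, e1, hσ0, Equiv.swap_apply_left]
      have hPc := hB.cong_hyperbolic h2 hanti _ hP (h01 ▸ hu)
      have hPu : IsUnit V.toBlocks₁₁ := hPc.symm.isUnit
        ((Matrix.isUnit_iff_isUnit_det _).2 (by rw [Matrix.det_fin_two_of]; simp))
      obtain ⟨p, hp⟩ := hPu
      have hpi : (↑p⁻¹ : Matrix (Fin 2) (Fin 2) B)ᴴ = -(↑p⁻¹ : Matrix (Fin 2) (Fin 2) B) := by
        rw [← Matrix.star_eq_conjTranspose, ← Units.coe_star, star_inv, ← Units.val_neg, neg_inv]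
        congr 2
        exact Units.ext (by rw [Units.coe_star, Units.val_neg, hp]; exact hP)
      have hQ : (V.toBlocks₂₁ * (↑p⁻¹ : Matrix (Fin 2) (Fin 2) B))ᴴ = (↑p⁻¹ : Matrix (Fin 2) (Fin 2) B) * V.toBlocks₁₂ := by
        rw [conjTranspose_mul, hpi, show V.toBlocks₂₁ᴴ = -V.toBlocks₁₂ by
          ext a b; exact congrFun (congrFun hVs (Sum.inl a)) (Sum.inr b)]
        simp
      have hc := cong_schur V.toBlocks₁₁ V.toBlocks₁₂ V.toBlocks₂₁ V.toBlocks₂₂ _
        (by rw [← hp, Units.mul_inv]) hQ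
      rw [← hVb] at hc
      have hSu := isUnit_snd_of_blocks (hc.isUnit hV)
      have hSs := snd_conjTranspose (c := (-1 : B)) (by rw [hc.conjTranspose_eq_neg hVs]; simp)
      obtain ⟨hev, hS⟩ := skew_normal m _ hSu (by simpa using hSs)
      refine ⟨by simpa [Nat.even_add] using hev, (cong_perm W σ).trans (Cong.of_submatrix e ?_)⟩
      have h := hc.trans (Cong.blocks hPc hS)
      rw [← skewStd_add_two B m] at h
      have he : (skewStd B (m + 2)).submatrix e e =
          (skewStd B (2 + m)).submatrix finSumFinEquiv finSumFinEquiv := by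
        ext a b; simp [e, skewStd]
      rw [he]
      exact h
termination_by n => n

end Good

/-- rescaling an `e`-hermitian matrix -/
theorem Good.exists_scaling (hB : Good B) {n : ℕ} (hn : 0 < n) (e : B) (he : star e * e = 1)
    (W : Matrix (Fin n) (Fin n) B) (hW : IsUnit W) (hWe : Wᴴ = e • W)
    (h : IsUnit (2 : B) ∨ (∃ d : B, star d = -d ∧ IsUnit d ∧ ∃ b : B, IsUnit (b + star b)) ∨ Odd n) :
    (∃ c : B, IsUnit c ∧ (c • W)ᴴ = c • W ∧ ((∃ b : B, IsUnit (b + star b)) ∨ Odd n)) ∨
    (IsUnit (2 : B) ∧ (∀ d : B, star d = -d → ¬ IsUnit d) ∧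
      ∃ c : B, IsUnit c ∧ (c • W)ᴴ = -(c • W)) := by
  have key : ∀ c : B, (c • W)ᴴ = (star c * e) • W := fun c => by
    rw [conjTranspose_smul, hWe, smul_smul]
  by_cases hodd : Odd n
  · left
    obtain ⟨k, hk⟩ := hodd
    have hd := ((Matrix.isUnit_iff_isUnit_det _).1 hW)
    obtain ⟨d, hd⟩ := hd
    have hsd : star (↑d : B) = e ^ n * ↑d := by
      rw [hd, ← Matrix.det_conjTranspose, hWe, Matrix.det_smul, Fintype.card_fin]
    have heu : IsUnit e := IsUnit.of_mul_eq_one _ (show e * star e = 1 by rw [mul_comm]; exact he)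
    -- `c = (e ^ (k+1) d)⁻¹ …`: we use `c := star d * (star e)^k * ...`
    obtain ⟨eu, rfl⟩ := heu
    refine ⟨↑(d * eu ^ k)⁻¹ * 1, by rw [mul_one]; exact Units.isUnit _, ?_, Or.inr ⟨k, hk⟩⟩
    rw [key]
    congr 1
    set v := d * eu ^ k
    have hes : star eu = eu⁻¹ := eq_inv_of_mul_eq_one_left (Units.ext (by simpa using he))
    have hv : star v = v * eu := by
      apply Units.ext
      simp only [v, Units.coe_star, Units.val_mul, Units.val_pow_eq_pow_val, star_mul', star_pow]
      rw [hsd, hk, show star (↑eu : B) = ↑eu⁻¹ from congrArg Units.val hes]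
      calc (↑eu : B) ^ (2 * k + 1) * ↑d * (↑eu⁻¹ : B) ^ k
          = ↑d * ↑eu ^ k * ↑eu * (↑eu * ↑eu⁻¹) ^ k := by ring
        _ = _ := by rw [Units.mul_inv, one_pow, mul_one]
    rw [mul_one, ← Units.coe_star_inv, hv, mul_inv, Units.val_mul, mul_assoc, Units.inv_mul, mul_one]
  · have hsmul : ∀ c : B, star c * e = c → (c • W)ᴴ = c • W := fun c hc => by rw [key, hc]
    have hc : ∀ b : B, star (b + e * star b) * e = b + e * star b := fun b => by
      rw [star_add, star_mul', star_star]
      linear_combination b * he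
    rcases h with h2 | ⟨d, hd, hdu, b₀, hb₀⟩ | hn'
    · have htr : ∃ b : B, IsUnit (b + star b) := ⟨1, by rwa [star_one, one_add_one_eq_two]⟩
      by_cases h1 : IsUnit (1 + e * star 1)
      · exact Or.inl ⟨_, h1, hsmul _ (hc 1), Or.inl htr⟩
      rw [star_one, mul_one] at h1
      have hN : (1 + e) * star (1 + e) ∈ Ideal.jacobson (⊥ : Ideal B) :=
        hB.mem_of_not_isUnit (by rw [star_mul', star_star, mul_comm]) fun hu =>
          h1 (isUnit_of_mul_isUnit_left hu)
      have hu : IsUnit (1 - e) := by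
        refine isUnit_of_mul_isUnit_left (y := star (1 - e)) ?_
        rw [show (1 - e) * star (1 - e) = 2 * 2 + -((1 + e) * star (1 + e)) by
          simp only [star_add, star_sub, star_one]; linear_combination (2 : B) * he]
        exact hB.isUnit_add (h2.mul h2) (neg_mem hN)
      have hneg : star (1 - e) * e = -(1 - e) := by
        simp only [star_sub, star_one]; linear_combination (-1 : B) * he
      by_cases hanti : ∃ d : B, star d = -d ∧ IsUnit d
      · obtain ⟨d, hd, hdu⟩ := hanti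
        refine Or.inl ⟨d * (1 - e), hdu.mul hu, hsmul _ ?_, Or.inl htr⟩
        rw [star_mul', mul_assoc, hneg, hd, neg_mul_neg]
      · push Not at hanti
        exact Or.inr ⟨h2, hanti, _, hu, by rw [key, hneg, neg_smul]⟩
    · left
      suffices ∃ b : B, IsUnit (b + e * star b) by
        obtain ⟨b, hb⟩ := this
        exact ⟨_, hb, hsmul _ (hc b), Or.inl ⟨b₀, hb₀⟩⟩
      set β := b₀ * d
      have hδ : IsUnit (β - star β) := by
        rw [show β - star β = d * (b₀ + star b₀) by simp only [β, star_mul', hd]; ring]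
        exact hdu.mul hb₀
      by_contra hno
      push Not at hno
      set J := Ideal.jacobson (⊥ : Ideal B)
      have hN : ∀ b : B, (b + e * star b) * star (b + e * star b) ∈ J := fun b =>
        hB.mem_of_not_isUnit (by rw [star_mul', star_star, mul_comm]) fun hu =>
          hno b (isUnit_of_mul_isUnit_left hu)
      set c₁ := 1 + e * star (1 : B)
      set c₂ := β + e * star β
      have hN1 := hN 1
      have hN2 := hN β
      have hx : c₁ * star c₂ ∈ J := by
        refine hB.mem_of_trace_norm ?_ ?_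
        · have h3 := hN (1 + β)
          rw [show (1 + β) + e * star (1 + β) = c₁ + c₂ by
              simp only [c₁, c₂, star_add, star_one]; ring] at h3
          have h4 := sub_mem (sub_mem h3 hN1) hN2
          rwa [show (c₁ + c₂) * star (c₁ + c₂) - c₁ * star c₁ - c₂ * star c₂ =
            c₁ * star c₂ + star (c₁ * star c₂) by
              simp only [star_add, star_mul', star_star]; ring] at h4
        · rw [show c₁ * star c₂ * star (c₁ * star c₂) = (c₁ * star c₁) * (c₂ * star c₂) by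
            simp only [star_mul', star_star]; ring]
          exact Ideal.mul_mem_right _ _ hN1
      have hd2 : β - star β = c₂ - c₁ * star β := by simp only [c₁, c₂, star_one]; ring
      refine hB.not_isUnit ?_ (hδ.mul hδ.star)
      rw [hd2, show (c₂ - c₁ * star β) * star (c₂ - c₁ * star β) = c₂ * star c₂ +
        (c₁ * star c₁) * (β * star β) - (star (c₁ * star c₂) * β + c₁ * star c₂ * star β) by
        simp only [star_sub, star_mul', star_star]; ring]
      exact sub_mem (add_mem hN2 (Ideal.mul_mem_right _ _ hN1))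
        (add_mem (Ideal.mul_mem_right _ _ (hB.star_mem hx)) (Ideal.mul_mem_right _ _ hx))
    · exact absurd hn' hodd

/-- hermitian invertible matrices are congruent to the identity -/
theorem Good.hermitian_normal (hB : Good B) {n : ℕ} (W : Matrix (Fin n) (Fin n) B) (hW : IsUnit W)
    (hsym : Wᴴ = W) (h : (∃ b : B, IsUnit (b + star b)) ∨ Odd n) : Cong W 1 := by
  by_cases htr : ∃ b : B, IsUnit (b + star b)
  · obtain ⟨b₀, hb₀⟩ := htr
    rcases Nat.eq_zero_or_pos n with rfl | hn
    · exact (Subsingleton.elim W 1) ▸ Cong.refl _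
    obtain ⟨W', hc, hd⟩ := hB.exists_cong_diag_unit hW hsym ⟨0, hn⟩ hb₀
    exact hc.trans (hB.cong_one_of_diag _ W' rfl (hc.isUnit hW) (hc.conjTranspose_eq hsym) fun _ => hd)
  · push Not at htr
    have hodd := h.resolve_left (by push Not; exact htr)
    exact hB.cong_one_of_diag _ W rfl hW hsym fun _ =>
      hB.odd_exists_diag hW hsym htr (by simpa using hodd)

end Groth.Agent.AzInvLib
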