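import Groth.Agent.AzInvLib.Loci

/-! # Global consequences: the two loci are clopen; matrices over algebras -/

set_option autoImplicit false
set_option linter.style.haveILetI false

open TensorProduct Matrix CategoryTheory

universe u v w w' x y z

namespace Groth.Agent.AzInvLib

open Groth.Agent.Hensel Groth.Agent.CSA

section model

variable {S : Type u} [CommRing S] {R : Type v} [CommRing R] [Algebra S R] {lam : R ≃ₐ[S] R}
  {A : Type w} [Ring A] [Algebra R A] {n : ℕ}

/-- there is a model with matrix `C` (defined over `R`) over `R ⊗ E` -/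
def HasModel (C : Matrix (Fin n) (Fin n) R) (t : AzInv.LamInv R A lam) (E : Type x) [CommRing E]
    [Algebra S E] : Prop :=
  ∃ ψ : A →ₐ[R] Matrix (Fin n) (Fin n) (R ⊗[S] E),
    IsModel t (muT E lam) ((Algebra.ofId R (R ⊗[S] E)).mapMatrix C) ψ

variable {t : AzInv.LamInv R A lam} {C : Matrix (Fin n) (Fin n) R}

theorem mapMatrix_skewStd (E : Type x) [CommRing E] [Algebra S E] (n : ℕ) :
    (Algebra.ofId R (R ⊗[S] E)).mapMatrix (skewStd R n) = skewStd (R ⊗[S] E) n :=
  skewStd_map' (Algebra.ofId R (R ⊗[S] E)).toRingHom n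

theorem HasModel.map {E : Type x} [CommRing E] [Algebra S E] {E' : Type y} [CommRing E'] [Algebra S E']
    (g : E →ₐ[S] E') (h : HasModel C t E) : HasModel C t E' := by
  obtain ⟨ψ, hψ⟩ := h
  let G := Algebra.TensorProduct.map (AlgHom.id R R) g
  have hg : ∀ b, muT E' lam (G b) = G (muT E lam b) := fun b => by
    induction b using TensorProduct.induction_on with
    | zero => simp
    | add b b' h h' => simp only [map_add, h, h']
    | tmul r e => simp [G, muT]
  refine ⟨G.mapMatrix.comp ψ, ?_⟩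
  have h := hψ.map G hg
  rwa [show G.mapMatrix ((Algebra.ofId R (R ⊗[S] E)).mapMatrix C) =
    (Algebra.ofId R (R ⊗[S] E')).mapMatrix C by ext i j; exact G.commutes (C i j)] at h

theorem exists_stage_model [Module.Finite R A] [Module.Projective R A] {K : Type u} [CommRing K]
    [Algebra S K] (h : HasModel C t (Hens S K)) : ∃ X : Nbhd S K, HasModel C t X.carrier := by
  classical
  obtain ⟨ψ, hψ⟩ := h
  obtain ⟨X, φ, hφ⟩ := exists_stage_algHom A n ψ
  obtain ⟨m, a, ha⟩ := exists_span_family R A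
  let CX : Matrix (Fin n) (Fin n) (R ⊗[S] X.carrier) := (Algebra.ofId R (R ⊗[S] X.carrier)).mapMatrix C
  let σ := (stageMap S R X).mapMatrix (m := Fin n)
  have hC : σ CX = (Algebra.ofId R (R ⊗[S] Hens S K)).mapMatrix C := by
    ext i j; exact (stageMap S R X).commutes (C i j)
  have htr : ∀ N, σ (AzInv.lamTr (muT X.carrier lam) N) = AzInv.lamTr (muT (Hens S K) lam) (σ N) :=
    fun N => (lamTr_map (stageMap S R X) _ _ (muT_stageMap X) N).symm
  have heq : ∀ i, σ (φ (t (a i)) * CX) = σ (CX * AzInv.lamTr (muT X.carrier lam) (φ (a i))) := fun i => by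
    simp only [map_mul, htr, hC, σ, hφ]
    exact hψ (a i)
  obtain ⟨Y, f, hf⟩ := exists_trans_eq_of_finite S R
    (fun q : Fin m × Fin n × Fin n => (φ (t (a q.1)) * CX) q.2.1 q.2.2)
    (fun q => (CX * AzInv.lamTr (muT X.carrier lam) (φ (a q.1))) q.2.1 q.2.2)
    fun q => congrFun (congrFun (heq q.1) q.2.1) q.2.2
  let τ := (transMap S R f).mapMatrix (m := Fin n)
  have hν : ∀ r : R, (muT Y.carrier lam : _ →ₐ[S] _).toRingHom (algebraMap R _ r) =
      algebraMap R (R ⊗[S] Y.carrier) (lam r) := fun r => by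
    show muT Y.carrier lam (r ⊗ₜ[S] 1) = lam r ⊗ₜ[S] 1
    simp [muT]
  refine ⟨Y, τ.comp φ, span_model (muT Y.carrier lam).toRingHom hν ha fun i => ?_⟩
  have h : τ (φ (t (a i)) * CX) = τ (CX * AzInv.lamTr (muT X.carrier lam) (φ (a i))) := by
    ext p q; exact hf (i, p, q)
  rw [map_mul, map_mul,
    show τ CX = (Algebra.ofId R (R ⊗[S] Y.carrier)).mapMatrix C by
      ext p q; exact (transMap S R f).commutes (C p q),
    show τ (AzInv.lamTr (muT X.carrier lam) (φ (a i))) = AzInv.lamTr (muT Y.carrier lam) (τ (φ (a i))) from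
      (lamTr_map (transMap S R f) _ _ (muT_transMap f) _).symm] at h
  exact h

theorem isOpen_hasModel [Module.Finite R A] [Module.Projective R A] :
    IsOpen {p : PrimeSpectrum S | HasModel C t (Hens S (SeparableClosure p.asIdeal.ResidueField))} := by
  rw [isOpen_iff_forall_mem_open]
  intro p hp
  obtain ⟨X, hX⟩ := exists_stage_model hp
  refine ⟨Set.range (PrimeSpectrum.comap (algebraMap S X.carrier)), ?_,
    (PrimeSpectrum.isOpenMap_comap_of_hasGoingDown_of_finitePresentation
      (R := S) (S := X.carrier)).isOpen_range, ?_⟩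
  · rintro q ⟨P, hP⟩
    obtain ⟨σ⟩ := exists_point_of_prime (C := S) (K := SeparableClosure q.asIdeal.ResidueField)
      X.carrier P (by
        rw [hP]
        refine PrimeSpectrum.ext (Ideal.ext fun c => ?_)
        show c ∈ q.asIdeal ↔ algebraMap S (SeparableClosure q.asIdeal.ResidueField) c = 0
        rw [IsScalarTower.algebraMap_apply S q.asIdeal.ResidueField
          (SeparableClosure q.asIdeal.ResidueField), map_eq_zero, Ideal.algebraMap_residueField_eq_zero])
    obtain ⟨φ, -⟩ := Hens.exists_algHom X.carrier σ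
    exact hX.map φ
  · refine ⟨⟨RingHom.ker X.point.toRingHom, RingHom.ker_isPrime _⟩, PrimeSpectrum.ext ?_⟩
    ext c
    show X.point (algebraMap S X.carrier c) = 0 ↔ c ∈ p.asIdeal
    rw [AlgHom.commutes, IsScalarTower.algebraMap_apply S p.asIdeal.ResidueField
      (SeparableClosure p.asIdeal.ResidueField), map_eq_zero, Ideal.algebraMap_residueField_eq_zero]

/-- without anti-fixed units there is a ramified prime over `p` -/
theorem exists_ramified_prime (hlam : ∀ r, lam (lam r) = r) (hfix : RInv.IsFixedRing S R lam.toRingEquiv)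
    (h2 : IsUnit (2 : S)) (p : PrimeSpectrum S)
    (hanti : ∀ d : R ⊗[S] Hens S (SeparableClosure p.asIdeal.ResidueField),
      muT (Hens S (SeparableClosure p.asIdeal.ResidueField)) lam d = -d → ¬ IsUnit d) :
    ∃ q : PrimeSpectrum R, (∀ r : R, lam r - r ∈ q.asIdeal) ∧
      PrimeSpectrum.comap (algebraMap S R) q = p := by
  let T := Hens S (SeparableClosure p.asIdeal.ResidueField)
  letI := starB T lam hlam
  have hB := good T lam hlam hfix (exists_sqrt_hens (hsq_of_two h2) _)
  haveI := hB.nontriv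
  obtain ⟨M, hM⟩ := Ideal.exists_maximal (R ⊗[S] T)
  let ι : R →ₐ[S] R ⊗[S] T := Algebra.TensorProduct.includeLeft
  have hle : Ideal.jacobson (⊥ : Ideal (R ⊗[S] T)) ≤ M := sInf_le ⟨bot_le, hM⟩
  have h2B : IsUnit (2 : R ⊗[S] T) := by simpa [map_ofNat] using h2.map (algebraMap S (R ⊗[S] T))
  refine ⟨⟨M.comap ι.toRingHom, Ideal.IsPrime.comap (hK := hM.isPrime) _⟩, fun r => ?_, ?_⟩
  · show ι (lam r - r) ∈ M
    refine hle (hB.anti_mem h2B hanti ?_)
    show muT T lam ((lam r - r) ⊗ₜ[S] (1 : T)) = -((lam r - r) ⊗ₜ[S] (1 : T))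
    simp [muT, hlam, ← TensorProduct.neg_tmul]
  · refine PrimeSpectrum.ext (Ideal.ext fun c => ?_)
    show ι (algebraMap S R c) ∈ M ↔ c ∈ p.asIdeal
    rw [AlgHom.commutes, show algebraMap S (R ⊗[S] T) c = (1 : R) ⊗ₜ[S] algebraMap S T c from
      ((Algebra.TensorProduct.includeRight : T →ₐ[S] R ⊗[S] T).commutes c).symm]
    constructor
    · intro h
      by_contra hc
      refine hM.ne_top (Ideal.eq_top_of_isUnit_mem _ h ?_)
      refine IsUnit.map (Algebra.TensorProduct.includeRight : T →ₐ[S] R ⊗[S] T) (Hens.isUnit_of_isUnit_π ?_)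
      rw [AlgHom.commutes, IsScalarTower.algebraMap_apply S p.asIdeal.ResidueField
        (SeparableClosure p.asIdeal.ResidueField), isUnit_iff_ne_zero, Ne, map_eq_zero,
        Ideal.algebraMap_residueField_eq_zero]
      exact hc
    · intro hc
      refine hle (hB.mem_of_not_isUnit ?_ (not_isUnit_right hlam hfix
        (by simpa using not_isUnit_hens p.asIdeal hc 1)))
      show muT T lam ((1 : R) ⊗ₜ[S] algebraMap S T c) = _
      simp [muT]

theorem skewStd_blocks (B : Type x) [CommRing B] (m k : ℕ) (hk : Even k) :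
    Matrix.reindex finProdFinEquiv finProdFinEquiv
      (Matrix.compAlgEquiv (Fin m) (Fin k) B B (Matrix.diagonal fun _ => skewStd B k)) = skewStd B (m * k) := by
  rw [← Equiv.eq_symm_apply]
  ext ⟨a, p⟩ ⟨b, q⟩
  show (Matrix.diagonal fun _ => skewStd B k) a b p q = skewStd B (m * k) (finProdFinEquiv (a, p)) (finProdFinEquiv (b, q))
  simp only [skewStd, Matrix.of_apply, finProdFinEquiv_apply_val, Matrix.diagonal_apply]
  have heven : ∀ (x y : ℕ), Even (x + k * y) ↔ Even x := fun x y => by
    simp [Nat.even_add, hk.mul_right y]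
  simp only [heven]
  have hp := p.2
  have hq := q.2
  by_cases hab : a = b
  · subst hab
    rw [if_pos rfl]
    simp only [Matrix.of_apply, show ∀ x y : ℕ, (x + k * (a : ℕ) = y + k * (a : ℕ) + 1) ↔ x = y + 1 from
      fun x y => by omega]
  · rw [if_neg hab, Matrix.zero_apply, if_neg, if_neg]
    all_goals
      rintro ⟨h, he⟩
      have hne : (a : ℕ) ≠ b := fun h => hab (Fin.ext h)
      obtain ⟨c, hc⟩ := hk
      obtain ⟨d, hd⟩ := he
      rcases Nat.lt_or_gt_of_ne hne with hlt | hlt
      · have := Nat.mul_le_mul_left k (Nat.succ_le_of_lt hlt)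
        rw [Nat.mul_succ] at this
        omega
      · have := Nat.mul_le_mul_left k (Nat.succ_le_of_lt hlt)
        rw [Nat.mul_succ] at this
        omega

end model

section matrix

variable {R : Type v} [CommRing R] {A : Type w} [Ring A] [Algebra R A] [IsAzumaya R A]

theorem isAzumaya_matrix_over (m : ℕ) (hm : 0 < m) : IsAzumaya R (Matrix (Fin m) (Fin m) A) := by
  haveI : Nonempty (Fin m) := ⟨⟨0, hm⟩⟩
  haveI := CSA.isAzumaya_matrix R (Fin m)
  haveI := CSA.isAzumaya_tensorProduct R A (Matrix (Fin m) (Fin m) R)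
  exact IsAzumaya.of_AlgEquiv R _ _ (matrixEquivTensor (Fin m) R A).symm

theorem rankAtStalk_matrix_over (m n : ℕ) (hm : 0 < m)
    (hrk : ∀ q : PrimeSpectrum R, Module.rankAtStalk (R := R) A q = n ^ 2) (q : PrimeSpectrum R) :
    Module.rankAtStalk (R := R) (Matrix (Fin m) (Fin m) A) q = (m * n) ^ 2 := by
  haveI : Nonempty (Fin m) := ⟨⟨0, hm⟩⟩
  haveI := CSA.isAzumaya_matrix R (Fin m)
  rw [Module.rankAtStalk_eq_of_equiv (matrixEquivTensor (Fin m) R A).toLinearEquiv,
    Module.rankAtStalk_tensorProduct, Pi.mul_apply, hrk, rankAtStalk_matrix, Fintype.card_fin]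
  ring

theorem reindex_model {k : Type x} [CommRing k] [Algebra R k] {lam : R → R} {t : AzInv.LamInv R A lam}
    {ν : k → k} {ι : Type y} [Fintype ι] [DecidableEq ι] {κ : Type z} [Fintype κ] [DecidableEq κ]
    (e : ι ≃ κ) {W : Matrix ι ι k} {ψ : A →ₐ[R] Matrix ι ι k} (h : IsModel t ν W ψ) :
    IsModel t ν (Matrix.reindexAlgEquiv R k e W) ((Matrix.reindexAlgEquiv R k e).toAlgHom.comp ψ) := fun a => by
  show Matrix.reindexAlgEquiv R k e (ψ (t a)) * Matrix.reindexAlgEquiv R k e W = _
  rw [← map_mul, h a, map_mul]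
  rfl

end matrix

end Groth.Agent.AzInvLib
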