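import Groth.Agent.AzInvLib.Final

/-! # The statements about the types -/

set_option autoImplicit false
set_option linter.style.haveILetI false

open TensorProduct Matrix CategoryTheory

universe u v w w' x y z

namespace Groth.Agent.AzInvLib

open Groth.Agent.Hensel Groth.Agent.CSA

section

variable {S : Type u} [CommRing S] {R : Type v} [CommRing R] [Algebra S R] {lam : R ≃ₐ[S] R}
  {A : Type w} [Ring A] [Algebra R A] [IsAzumaya R A] {n : ℕ} {t : AzInv.LamInv R A lam}

theorem hasModel_one_iff {E : Type x} [CommRing E] [Algebra S E] :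
    HasModel (1 : Matrix (Fin n) (Fin n) R) t E ↔
      ∃ ψ, IsModel t (muT E lam) (1 : Matrix (Fin n) (Fin n) (R ⊗[S] E)) ψ := by
  rw [HasModel, map_one]

theorem hasModel_skew_iff {E : Type x} [CommRing E] [Algebra S E] :
    HasModel (skewStd R n) t E ↔
      ∃ ψ, IsModel t (muT E lam) (skewStd (R ⊗[S] E) n) ψ := by
  rw [HasModel, mapMatrix_skewStd]

theorem normal_form_two (hlam : ∀ r, lam (lam r) = r) (hfix : RInv.IsFixedRing S R lam.toRingEquiv)
    (h2 : IsUnit (2 : S)) (hn : 0 < n)
    (hrk : ∀ q : PrimeSpectrum R, Module.rankAtStalk (R := R) A q = n ^ 2) (p : PrimeSpectrum S) :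
    HasModel (1 : Matrix (Fin n) (Fin n) R) t (Hens S (SeparableClosure p.asIdeal.ResidueField)) ∨
    (Even n ∧ (∀ d : R ⊗[S] Hens S (SeparableClosure p.asIdeal.ResidueField),
        muT (Hens S (SeparableClosure p.asIdeal.ResidueField)) lam d = -d → ¬ IsUnit d) ∧
      HasModel (skewStd R n) t (Hens S (SeparableClosure p.asIdeal.ResidueField)) ∧
      ¬ HasModel (1 : Matrix (Fin n) (Fin n) R) t (Hens S (SeparableClosure p.asIdeal.ResidueField))) := by
  rcases normal_form_hens lam hlam hfix (hsq_of_two h2) n hn hrk (Or.inl h2) t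
    (SeparableClosure p.asIdeal.ResidueField) with h | ⟨-, hev, hanti, h⟩
  · exact Or.inl (hasModel_one_iff.2 h)
  · obtain ⟨q, hq, hqp⟩ := exists_ramified_prime hlam hfix h2 p hanti
    exact Or.inr ⟨hev, hanti, hasModel_skew_iff.2 h, fun h1 =>
      (sym_iff_finrank hlam hfix h2 hn hrk q hq p hqp).2 h hev (hasModel_one_iff.1 h1)⟩

theorem finrank_iff_hasModel (hlam : ∀ r, lam (lam r) = r) (hfix : RInv.IsFixedRing S R lam.toRingEquiv)
    (h2 : IsUnit (2 : S)) (hn : 0 < n)
    (hrk : ∀ q : PrimeSpectrum R, Module.rankAtStalk (R := R) A q = n ^ 2)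
    (q : PrimeSpectrum R) (hq : ∀ r : R, lam r - r ∈ q.asIdeal) :
    Module.finrank q.asIdeal.ResidueField
        (Submodule.span q.asIdeal.ResidueField
          (Set.range fun a : {a : A // t a = a} => (1 : q.asIdeal.ResidueField) ⊗ₜ[R] (a : A))) =
        Nat.choose (n + 1) 2 ↔
      HasModel (1 : Matrix (Fin n) (Fin n) R) t
        (Hens S (SeparableClosure (PrimeSpectrum.comap (algebraMap S R) q).asIdeal.ResidueField)) :=
  (sym_iff_finrank hlam hfix h2 hn hrk q hq _ rfl).1.trans hasModel_one_iff.symm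

/-- the symmetric locus is clopen -/
theorem isClopen_sym (hlam : ∀ r, lam (lam r) = r) (hfix : RInv.IsFixedRing S R lam.toRingEquiv)
    (h2 : IsUnit (2 : S)) (hn : 0 < n)
    (hrk : ∀ q : PrimeSpectrum R, Module.rankAtStalk (R := R) A q = n ^ 2)
    (hram : ∀ p : PrimeSpectrum S, ∀ d : R ⊗[S] Hens S (SeparableClosure p.asIdeal.ResidueField),
        muT (Hens S (SeparableClosure p.asIdeal.ResidueField)) lam d = -d → ¬ IsUnit d) :
    IsClopen {p : PrimeSpectrum S |
      HasModel (1 : Matrix (Fin n) (Fin n) R) t (Hens S (SeparableClosure p.asIdeal.ResidueField))} := by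
  refine ⟨?_, isOpen_hasModel⟩
  by_cases hev : Even n
  · rw [← isOpen_compl_iff]
    convert (isOpen_hasModel (S := S) (t := t) (C := skewStd R n)) using 1
    ext p
    obtain ⟨q, hq, hqp⟩ := exists_ramified_prime hlam hfix h2 p (hram p)
    constructor
    · intro h
      rcases normal_form_two (t := t) hlam hfix h2 hn hrk p with h1 | ⟨-, -, h1, -⟩
      · exact absurd h1 h
      · exact h1
    · intro h h1
      exact (sym_iff_finrank hlam hfix h2 hn hrk q hq p hqp).2 (hasModel_skew_iff.1 h) hev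
        (hasModel_one_iff.1 h1)
  · convert isClosed_univ
    exact Set.eq_univ_of_forall fun p =>
      (normal_form_two (t := t) hlam hfix h2 hn hrk p).resolve_right fun h => hev h.1

theorem finrank_locallyConstant (hlam : ∀ r, lam (lam r) = r) (hfix : RInv.IsFixedRing S R lam.toRingEquiv)
    (h2 : IsUnit (2 : S)) (hn : 0 < n)
    (hrk : ∀ q : PrimeSpectrum R, Module.rankAtStalk (R := R) A q = n ^ 2)
    (q : PrimeSpectrum R) (hq : ∀ r : R, lam r - r ∈ q.asIdeal) :
    ∃ f : R, f ∉ q.asIdeal ∧ ∀ q' : PrimeSpectrum R, (∀ r : R, lam r - r ∈ q'.asIdeal) → f ∉ q'.asIdeal →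
      (Module.finrank q'.asIdeal.ResidueField
          (Submodule.span q'.asIdeal.ResidueField
            (Set.range fun a : {a : A // t a = a} => (1 : q'.asIdeal.ResidueField) ⊗ₜ[R] (a : A))) = Nat.choose (n + 1) 2 ↔
        Module.finrank q.asIdeal.ResidueField
            (Submodule.span q.asIdeal.ResidueField
              (Set.range fun a : {a : A // t a = a} => (1 : q.asIdeal.ResidueField) ⊗ₜ[R] (a : A))) = Nat.choose (n + 1) 2) := by
  obtain ⟨O, hO, hpO, hiff⟩ : ∃ O : Set (PrimeSpectrum S), IsOpen O ∧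
      PrimeSpectrum.comap (algebraMap S R) q ∈ O ∧ ∀ q' : PrimeSpectrum R, (∀ r : R, lam r - r ∈ q'.asIdeal) →
        PrimeSpectrum.comap (algebraMap S R) q' ∈ O →
        (HasModel (1 : Matrix (Fin n) (Fin n) R) t
          (Hens S (SeparableClosure (PrimeSpectrum.comap (algebraMap S R) q').asIdeal.ResidueField)) ↔
         HasModel (1 : Matrix (Fin n) (Fin n) R) t
          (Hens S (SeparableClosure (PrimeSpectrum.comap (algebraMap S R) q).asIdeal.ResidueField))) := by
    rcases normal_form_two (t := t) hlam hfix h2 hn hrk (PrimeSpectrum.comap (algebraMap S R) q) with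
      h | ⟨hev, -, h, hno⟩
    · exact ⟨_, isOpen_hasModel (t := t) (C := (1 : Matrix (Fin n) (Fin n) R)), h,
        fun q' _ hq' => iff_of_true hq' h⟩
    · exact ⟨_, isOpen_hasModel (t := t) (C := skewStd R n), h, fun q' hq'r hq' => iff_of_false (fun h1 =>
        (sym_iff_finrank hlam hfix h2 hn hrk q' hq'r _ rfl).2 (hasModel_skew_iff.1 hq') hev
          (hasModel_one_iff.1 h1)) hno⟩
  obtain ⟨_, ⟨c, rfl⟩, hpc, hcO⟩ :=
    PrimeSpectrum.isTopologicalBasis_basic_opens.exists_subset_of_mem_open hpO hO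
  refine ⟨algebraMap S R c, hpc, fun q' hq' hf => ?_⟩
  rw [finrank_iff_hasModel hlam hfix h2 hn hrk q' hq', finrank_iff_hasModel hlam hfix h2 hn hrk q hq]
  exact hiff q' hq' (hcO hf)

variable [Algebra S A] [IsScalarTower S R A]

theorem exists_conj_normal (hlam : ∀ r, lam (lam r) = r) (hfix : RInv.IsFixedRing S R lam.toRingEquiv)
    (h2 : IsUnit (2 : S)) (hn : 0 < n)
    (hrk : ∀ q : PrimeSpectrum R, Module.rankAtStalk (R := R) A q = n ^ 2)
    (hram : ∀ p : PrimeSpectrum S, ∀ d : R ⊗[S] Hens S (SeparableClosure p.asIdeal.ResidueField),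
        muT (Hens S (SeparableClosure p.asIdeal.ResidueField)) lam d = -d → ¬ IsUnit d) :
    ∃ (w : (Matrix (Fin n) (Fin n) R)ˣ) (e : R)
      (hw : AzInv.LamInv.transpose lam (Fin n) hlam (↑w : Matrix (Fin n) (Fin n) R) = e • (↑w : Matrix (Fin n) (Fin n) R))
      (he : lam e * e = 1),
      AzInv.LocIsoEt S lam t ((AzInv.LamInv.transpose lam (Fin n) hlam).conj w e hw he) := by
  classical
  haveI : Nonempty (Fin n) := ⟨⟨0, hn⟩⟩
  haveI := CSA.isAzumaya_matrix R (Fin n)
  have hrk' : ∀ q : PrimeSpectrum R, Module.rankAtStalk (R := R) (Matrix (Fin n) (Fin n) R) q = n ^ 2 :=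
    fun q => by rw [rankAtStalk_matrix, Fintype.card_fin, pow_two]
  by_cases hev : Even n
  swap
  · refine ⟨1, 1, ?_, by simp, ?_⟩
    · rw [one_smul, Units.val_one, AzInv.LamInv.map_one]
    · refine locIsoEt_of_forall_hens S hn.ne' hrk hrk' fun p => ?_
      obtain ⟨ψ, hψ⟩ := hasModel_one_iff.1
        ((normal_form_two (t := t) hlam hfix h2 hn hrk p).resolve_right fun h => hev h.1)
      exact hasPair_of_models isUnit_one hψ (by
        have h := conj_model (S := S) (E := Hens S (SeparableClosure p.asIdeal.ResidueField)) n hlam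
          (1 : (Matrix (Fin n) (Fin n) R)ˣ) 1 (by rw [one_smul, Units.val_one, AzInv.LamInv.map_one])
          (by simp)
        rw [show (Algebra.ofId R (R ⊗[S] Hens S (SeparableClosure p.asIdeal.ResidueField))).mapMatrix
          ((1 : (Matrix (Fin n) (Fin n) R)ˣ) : Matrix (Fin n) (Fin n) R) = 1 by rw [Units.val_one, map_one]] at h
        exact h)
  obtain ⟨⟨e, he⟩, hU⟩ : ∃ e : {e : S // IsIdempotentElem e}, (PrimeSpectrum.basicOpen e.1 : Set (PrimeSpectrum S)) =
      {p : PrimeSpectrum S | HasModel (1 : Matrix (Fin n) (Fin n) R) t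
        (Hens S (SeparableClosure p.asIdeal.ResidueField))} := by
    obtain ⟨e, he, h⟩ := PrimeSpectrum.exists_idempotent_basicOpen_eq_of_isClopen
      (isClopen_sym (t := t) hlam hfix h2 hn hrk hram)
    exact ⟨⟨e, he⟩, h.symm⟩
  let ε := algebraMap S R e
  have hε : ε * ε = ε := by rw [← map_mul, he.eq]
  let J := skewStd R n
  let w : Matrix (Fin n) (Fin n) R := ε • 1 + (1 - ε) • J
  have hJ : J * (-J) = 1 := by
    exact skewStd_mul_neg R n hev
  have hww : w * (ε • 1 + (1 - ε) • (-J)) = 1 := by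
    simp only [w, add_mul, mul_add, smul_mul_assoc, mul_smul_comm, one_mul, mul_one, smul_add, smul_smul, hJ]
    rw [show ε * (1 - ε) = 0 by rw [mul_sub, mul_one, hε, sub_self],
      show (1 - ε) * ε = 0 by rw [sub_mul, one_mul, hε, sub_self],
      show (1 - ε) * (1 - ε) = 1 - ε by linear_combination hε, zero_smul, zero_smul, hε, add_zero,
      zero_add, ← add_smul, add_sub_cancel, one_smul]
  have hlε : lam ε = ε := lam.commutes e
  let W : (Matrix (Fin n) (Fin n) R)ˣ := ⟨w, _, hww, mul_eq_one_comm.1 hww⟩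
  refine ⟨W, 2 * ε - 1, ?_, ?_, ?_⟩
  · show AzInv.lamTr lam w = (2 * ε - 1) • w
    have hJ' : ∀ i j, lam (J j i) = -(J i j) := fun i j => by
      have := congrFun (congrFun (lamTr_skewStd (lam := lam) n) i) j
      simpa [J] using this
    ext i j
    simp only [AzInv.lamTr_apply, w, Matrix.add_apply, Matrix.smul_apply, smul_eq_mul, map_add, map_mul,
      map_sub, map_one, hlε, hJ']
    rw [show lam ((1 : Matrix (Fin n) (Fin n) R) j i) = (1 : Matrix (Fin n) (Fin n) R) i j by
      rw [Matrix.one_apply, Matrix.one_apply]; by_cases h : i = j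
      · subst h; simp
      · simp [h, Ne.symm h]]
    linear_combination (2 * J i j - 2 * (1 : Matrix (Fin n) (Fin n) R) i j) * hε
  · rw [map_sub, map_mul, map_ofNat, map_one, hlε]
    linear_combination 4 * hε
  · refine locIsoEt_of_forall_hens S hn.ne' hrk hrk' fun p => ?_
    let T := Hens S (SeparableClosure p.asIdeal.ResidueField)
    let ι := (Algebra.ofId R (R ⊗[S] T)).mapMatrix (m := Fin n)
    have hunit : ∀ c : S, c ∉ p.asIdeal → IsUnit (algebraMap S T c) := fun c hc => by
      refine Hens.isUnit_of_isUnit_π ?_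
      rw [AlgHom.commutes, IsScalarTower.algebraMap_apply S p.asIdeal.ResidueField
        (SeparableClosure p.asIdeal.ResidueField), isUnit_iff_ne_zero, Ne, map_eq_zero,
        Ideal.algebraMap_residueField_eq_zero]
      exact hc
    have hidem : IsIdempotentElem (algebraMap S T e) := by
      rw [IsIdempotentElem, ← map_mul, he.eq]
    have hεT : algebraMap R (R ⊗[S] T) ε = algebraMap S (R ⊗[S] T) e :=
      (IsScalarTower.algebraMap_apply S R (R ⊗[S] T) e).symm
    have hconj := fun hw' he' => conj_model (S := S) (E := T) n hlam W (2 * ε - 1) hw' he'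
    have key : ∀ C : Matrix (Fin n) (Fin n) R, IsUnit C → ι w = ι C → HasModel C t T →
        ∀ hw' he', HasPair n t ((AzInv.LamInv.transpose lam (Fin n) hlam).conj W (2 * ε - 1) hw' he') T := by
      intro C hCu hC hM hw' he'
      obtain ⟨ψ, hψ⟩ := hM
      exact hasPair_of_models (hCu.map ι) hψ (by
        have h := hconj hw' he'
        rwa [show ι (↑W : Matrix (Fin n) (Fin n) R) = ι C from hC] at h)
    by_cases hp : p ∈ (PrimeSpectrum.basicOpen e : Set (PrimeSpectrum S))
    · refine key 1 isUnit_one ?_ (by rw [hU] at hp; exact hp) _ _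
      have he1 : algebraMap S T e = 1 :=
        (IsIdempotentElem.iff_eq_one_of_isUnit (hunit e hp)).1 hidem
      have : algebraMap R (R ⊗[S] T) ε = 1 := by
        rw [hεT, ← (Algebra.TensorProduct.includeRight : T →ₐ[S] R ⊗[S] T).commutes e, he1, map_one]
      show ι (ε • 1 + (1 - ε) • J) = ι 1
      rw [map_add, map_smul, map_smul, ← algebraMap_smul (R ⊗[S] T) ε, ← algebraMap_smul (R ⊗[S] T) (1 - ε),
        map_sub, map_one, map_one, this, sub_self, one_smul, zero_smul, add_zero]
    · have hne : ¬ HasModel (1 : Matrix (Fin n) (Fin n) R) t T := fun h => hp (hU.symm ▸ h)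
      obtain ⟨-, -, hM, -⟩ := (normal_form_two (t := t) hlam hfix h2 hn hrk p).resolve_left hne
      refine key (skewStd R n) (isUnit_skewStd R n hev) ?_ hM _ _
      have he1 : algebraMap S T (1 - e) = 1 := by
        refine (IsIdempotentElem.iff_eq_one_of_isUnit (hunit _ fun h => ?_)).1 ?_
        · have he' : e ∈ p.asIdeal := not_not.1 hp
          exact p.isPrime.ne_top ((Ideal.eq_top_iff_one _).2 (by simpa using add_mem h he'))
        · rw [map_sub, map_one]; exact hidem.one_sub
      have : algebraMap R (R ⊗[S] T) ε = 0 := by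
        rw [hεT, ← (Algebra.TensorProduct.includeRight : T →ₐ[S] R ⊗[S] T).commutes e,
          show algebraMap S T e = 0 by rw [map_sub, map_one, sub_eq_self] at he1; exact he1, map_zero]
      show ι (ε • 1 + (1 - ε) • J) = ι J
      rw [map_add, map_smul, map_smul, ← algebraMap_smul (R ⊗[S] T) ε, ← algebraMap_smul (R ⊗[S] T) (1 - ε),
        map_sub, map_one, map_one, this, sub_zero, one_smul, zero_smul, zero_add]

theorem locIsoEt_symm {A' : Type w'} [Ring A'] [Algebra S A'] [Algebra R A'] [IsScalarTower S R A']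
    {t' : AzInv.LamInv R A' lam} (h : AzInv.LocIsoEt S lam t t') : AzInv.LocIsoEt S lam t' t := by
  obtain ⟨S', i1, i2, i3, i4, f, hfR, hft⟩ := h
  refine ⟨S', i1, i2, i3, i4, f.symm, fun r x => ?_, fun x => ?_⟩
  · apply f.injective
    rw [hfR, AlgEquiv.apply_symm_apply, AlgEquiv.apply_symm_apply]
  · apply f.injective
    rw [hft, AlgEquiv.apply_symm_apply, AlgEquiv.apply_symm_apply]

theorem sameType_of_finrank {A' : Type w'} [Ring A'] [Algebra S A'] [Algebra R A'] [IsScalarTower S R A']
    [IsAzumaya R A'] {n' : ℕ} {t' : AzInv.LamInv R A' lam}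
    (hlam : ∀ r, lam (lam r) = r) (hfix : RInv.IsFixedRing S R lam.toRingEquiv)
    (h2 : IsUnit (2 : S)) (hn : 0 < n) (hn' : 0 < n')
    (hrk : ∀ q : PrimeSpectrum R, Module.rankAtStalk (R := R) A q = n ^ 2)
    (hrk' : ∀ q : PrimeSpectrum R, Module.rankAtStalk (R := R) A' q = n' ^ 2) :
    AzInv.SameType S lam t t' ↔
      ∀ q : PrimeSpectrum R, (∀ r : R, lam r - r ∈ q.asIdeal) →
        (Module.finrank q.asIdeal.ResidueField
            (Submodule.span q.asIdeal.ResidueField
              (Set.range fun a : {a : A // t a = a} => (1 : q.asIdeal.ResidueField) ⊗ₜ[R] (a : A))) = Nat.choose (n + 1) 2 ↔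
          Module.finrank q.asIdeal.ResidueField
            (Submodule.span q.asIdeal.ResidueField
              (Set.range fun a : {a : A' // t' a = a} => (1 : q.asIdeal.ResidueField) ⊗ₜ[R] (a : A'))) = Nat.choose (n' + 1) 2) := by
  constructor
  · intro h q hq
    rw [finrank_iff_hasModel hlam hfix h2 hn hrk q hq, finrank_iff_hasModel hlam hfix h2 hn' hrk' q hq]
    generalize PrimeSpectrum.comap (algebraMap S R) q = p
    have hsqT := exists_sqrt_hens (hsq_of_two h2) (SeparableClosure p.asIdeal.ResidueField)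
    have h2B : IsUnit (2 : R ⊗[S] Hens S (SeparableClosure p.asIdeal.ResidueField)) := by
      simpa [map_ofNat] using h2.map (algebraMap S (R ⊗[S] Hens S (SeparableClosure p.asIdeal.ResidueField)))
    rcases normal_form_two (t := t) hlam hfix h2 hn hrk p with h1 | ⟨hev, hanti, hs, hno⟩ <;>
      rcases normal_form_two (t := t') hlam hfix h2 hn' hrk' p with h1' | ⟨hev', hanti', hs', hno'⟩
    · exact iff_of_true h1 h1'
    · obtain ⟨ψ, hψ⟩ := hasModel_one_iff.1 h1
      obtain ⟨ψ', hψ'⟩ := hasModel_skew_iff.1 hs'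
      exact absurd h (false_of_mixed hlam hfix hsqT hn hn' hev' hrk hrk' hψ h2B hanti' hψ')
    · obtain ⟨ψ, hψ⟩ := hasModel_skew_iff.1 hs
      obtain ⟨ψ', hψ'⟩ := hasModel_one_iff.1 h1'
      exact absurd (sameType_symm h) (false_of_mixed hlam hfix hsqT hn' hn hev hrk' hrk hψ' h2B hanti hψ)
    · exact iff_of_false hno hno'
  · intro h
    refine ⟨n', n, hn', hn, ?_⟩
    haveI := isAzumaya_matrix_over (R := R) (A := A) n' hn'
    haveI := isAzumaya_matrix_over (R := R) (A := A') n hn
    refine locIsoEt_of_forall_hens S (n := n * n') (Nat.mul_pos hn hn').ne'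
      (fun q => by rw [rankAtStalk_matrix_over n' n hn' hrk, mul_comm])
      (fun q => rankAtStalk_matrix_over n n' hn hrk' q) fun p => ?_
    let T := Hens S (SeparableClosure p.asIdeal.ResidueField)
    let E : Fin n' × Fin n ≃ Fin (n * n') := finProdFinEquiv.trans (finCongr (mul_comm n' n))
    let E' : Fin n × Fin n' ≃ Fin (n * n') := finProdFinEquiv
    have hone : ∀ (m k : ℕ) (F : Fin m × Fin k ≃ Fin (n * n')),
        Matrix.reindexAlgEquiv R (R ⊗[S] T) F
          (Matrix.compAlgEquiv (Fin m) (Fin k) (R ⊗[S] T) R (Matrix.diagonal fun _ => 1)) = 1 := fun m k F => by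
      rw [Matrix.diagonal_one, map_one, map_one]
    rcases normal_form_two (t := t) hlam hfix h2 hn hrk p with h1 | ⟨hev, hanti, hs, hno⟩
    · obtain ⟨ψ, hψ⟩ := hasModel_one_iff.1 h1
      rcases normal_form_two (t := t') hlam hfix h2 hn' hrk' p with h1' | ⟨hev', hanti', hs', hno'⟩
      · obtain ⟨ψ', hψ'⟩ := hasModel_one_iff.1 h1'
        have e1 := reindex_model E (matModel_isModel hψ n')
        have e2 := reindex_model E' (matModel_isModel hψ' n)
        rw [hone] at e1 e2
        exact hasPair_of_models isUnit_one e1 e2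
      · obtain ⟨q, hq, rfl⟩ := exists_ramified_prime hlam hfix h2 p hanti'
        exact absurd ((finrank_iff_hasModel hlam hfix h2 hn' hrk' q hq).1 ((h q hq).1
          ((finrank_iff_hasModel hlam hfix h2 hn hrk q hq).2 h1))) hno'
    · obtain ⟨q, hq, rfl⟩ := exists_ramified_prime hlam hfix h2 p hanti
      rcases normal_form_two (t := t') hlam hfix h2 hn' hrk' (PrimeSpectrum.comap (algebraMap S R) q) with
        h1' | ⟨hev', hanti', hs', hno'⟩
      · exact absurd ((finrank_iff_hasModel hlam hfix h2 hn hrk q hq).1 ((h q hq).2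
          ((finrank_iff_hasModel hlam hfix h2 hn' hrk' q hq).2 h1'))) hno
      · obtain ⟨ψ, hψ⟩ := hasModel_skew_iff.1 hs
        obtain ⟨ψ', hψ'⟩ := hasModel_skew_iff.1 hs'
        have e1 := reindex_model E (matModel_isModel hψ n')
        have e2 := reindex_model E' (matModel_isModel hψ' n)
        have hE : Matrix.reindexAlgEquiv R (R ⊗[S] T) E (Matrix.compAlgEquiv (Fin n') (Fin n) (R ⊗[S] T) R
            (Matrix.diagonal fun _ => skewStd (R ⊗[S] T) n)) = skewStd (R ⊗[S] T) (n * n') := by
          have h := skewStd_blocks (R ⊗[S] T) n' n hev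
          ext i j
          have h' := congrFun (congrFun h (finCongr (mul_comm n n') i)) (finCongr (mul_comm n n') j)
          exact h'
        rw [hE] at e1
        rw [show Matrix.reindexAlgEquiv R (R ⊗[S] T) E' (Matrix.compAlgEquiv (Fin n) (Fin n') (R ⊗[S] T) R
            (Matrix.diagonal fun _ => skewStd (R ⊗[S] T) n')) = skewStd (R ⊗[S] T) (n * n') from
          skewStd_blocks (R ⊗[S] T) n n' hev'] at e2
        exact hasPair_of_models (isUnit_skewStd _ _ (hev.mul_right n')) e1 e2

end

end Groth.Agent.AzInvLib
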