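import Groth.Agent.AzInvLib.Final2

/-! # The quadratic etale case and the first kind -/

set_option autoImplicit false
set_option linter.style.haveILetI false

open TensorProduct Matrix CategoryTheory

universe u v w w' x y z

namespace Groth.Agent.AzInvLib

open Groth.Agent.Hensel Groth.Agent.CSA

section

variable {S : Type u} [CommRing S] {R : Type v} [CommRing R] [Algebra S R] {lam : R ≃ₐ[S] R}
  {A : Type w} [Ring A] [Algebra R A] [Algebra S A] [IsScalarTower S R A] [IsAzumaya R A] {n : ℕ}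
  {t : AzInv.LamInv R A lam}

theorem exists_conj_quad (hlam : ∀ r, lam (lam r) = r) (hfix : RInv.IsFixedRing S R lam.toRingEquiv)
    (hsq : ∀ (S₁ : Type u) [CommRing S₁] [Algebra S S₁] [Algebra.Etale S S₁] (x : S₁ˣ),
      ∃ (S₂ : Type u) (_ : CommRing S₂) (_ : Algebra S₁ S₂) (_ : Algebra.Etale S₁ S₂)
        (_ : Module.FaithfullyFlat S₁ S₂) (y : S₂), y * y = algebraMap S₁ S₂ ↑x)
    (hq : RInv.IsQuadEtale S R) (hn : 0 < n)
    (hrk : ∀ q : PrimeSpectrum R, Module.rankAtStalk (R := R) A q = n ^ 2) :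
    ∃ (w : (Matrix (Fin n) (Fin n) R)ˣ) (e : R)
      (hw : AzInv.LamInv.transpose lam (Fin n) hlam (↑w : Matrix (Fin n) (Fin n) R) = e • (↑w : Matrix (Fin n) (Fin n) R))
      (he : lam e * e = 1),
      AzInv.LocIsoEt S lam t ((AzInv.LamInv.transpose lam (Fin n) hlam).conj w e hw he) := by
  haveI : Nonempty (Fin n) := ⟨⟨0, hn⟩⟩
  haveI := CSA.isAzumaya_matrix R (Fin n)
  refine ⟨1, 1, by rw [one_smul, Units.val_one, AzInv.LamInv.map_one], by simp,
    locIsoEt_of_forall_hens S hn.ne' hrk (fun q => by rw [rankAtStalk_matrix, Fintype.card_fin, pow_two])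
      fun p => ?_⟩
  rcases normal_form_hens lam hlam hfix hsq n hn hrk (Or.inr (Or.inl hq)) t
      (SeparableClosure p.asIdeal.ResidueField) with ⟨ψ, hψ⟩ | ⟨-, -, hanti, -⟩
  · exact hasPair_of_models isUnit_one hψ (by
      have h := conj_model (S := S) (E := Hens S (SeparableClosure p.asIdeal.ResidueField)) n hlam
        (1 : (Matrix (Fin n) (Fin n) R)ˣ) 1 (by rw [one_smul, Units.val_one, AzInv.LamInv.map_one])
        (by simp)
      rw [show (Algebra.ofId R (R ⊗[S] Hens S (SeparableClosure p.asIdeal.ResidueField))).mapMatrix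
          ((1 : (Matrix (Fin n) (Fin n) R)ˣ) : Matrix (Fin n) (Fin n) R) = 1 by rw [Units.val_one, map_one]] at h
      exact h)
  · obtain ⟨d, hd, hdu, -⟩ := exists_anti_of_isQuadEtale (Hens S (SeparableClosure p.asIdeal.ResidueField))
      lam hlam hfix (exists_sqrt_hens hsq _) hq
    exact absurd hdu (hanti d hd)

end

theorem IsModel.neg {R : Type v} [CommRing R] {A : Type w} [Ring A] [Algebra R A] {lam : R → R}
    {t : AzInv.LamInv R A lam} {k : Type x} [CommRing k] [Algebra R k] {ν : k → k} {ι : Type y}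
    [Fintype ι] [DecidableEq ι] {W : Matrix ι ι k} {ψ : A →ₐ[R] Matrix ι ι k} (h : IsModel t ν W ψ) :
    IsModel t ν (-W) ψ := fun a => by rw [mul_neg, neg_mul, h a]

section firstKind

variable {R : Type u} [CommRing R] {A : Type w} [Ring A] [Algebra R A] [IsAzumaya R A] {n : ℕ}
  {t : AzInv.LamInv R A (AlgEquiv.refl : R ≃ₐ[R] R)}

theorem sameType_self_or_symplectic
    (hlam : ∀ r : R, (AlgEquiv.refl : R ≃ₐ[R] R) ((AlgEquiv.refl : R ≃ₐ[R] R) r) = r)
    [Nontrivial R] [ConnectedSpace (PrimeSpectrum R)] (h2 : IsUnit (2 : R))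
    (J : (Matrix (Fin 2) (Fin 2) R)ˣ) (hJ : (↑J : Matrix (Fin 2) (Fin 2) R) = Matrix.of ![![0, -1], ![1, 0]])
    (hJt : AzInv.LamInv.transpose (AlgEquiv.refl : R ≃ₐ[R] R) (Fin 2) hlam (↑J : Matrix (Fin 2) (Fin 2) R) = (-1 : R) • (↑J : Matrix (Fin 2) (Fin 2) R))
    (hneg : (AlgEquiv.refl : R ≃ₐ[R] R) (-1) * (-1) = 1) (hn : 0 < n)
    (hrk : ∀ q : PrimeSpectrum R, Module.rankAtStalk (R := R) A q = n ^ 2) :
    AzInv.SameType R (AlgEquiv.refl : R ≃ₐ[R] R) t (AzInv.LamInv.self (AlgEquiv.refl : R ≃ₐ[R] R) hlam) ∨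
      AzInv.SameType R (AlgEquiv.refl : R ≃ₐ[R] R) t ((AzInv.LamInv.transpose (AlgEquiv.refl : R ≃ₐ[R] R) (Fin 2) hlam).conj J (-1) hJt hneg) := by
  classical
  have hfix : RInv.IsFixedRing R R (AlgEquiv.refl : R ≃ₐ[R] R).toRingEquiv :=
    ⟨fun a b h => h, fun r => ⟨fun _ => ⟨r, rfl⟩, fun _ => rfl⟩⟩
  have hram : ∀ p : PrimeSpectrum R, ∀ d : R ⊗[R] Hens R (SeparableClosure p.asIdeal.ResidueField),
      muT (Hens R (SeparableClosure p.asIdeal.ResidueField)) (AlgEquiv.refl : R ≃ₐ[R] R) d = -d → ¬ IsUnit d := by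
    intro p d hd hu
    have hid : ∀ d, muT (Hens R (SeparableClosure p.asIdeal.ResidueField)) (AlgEquiv.refl : R ≃ₐ[R] R) d = d := fun d => by
      induction d using TensorProduct.induction_on with
      | zero => simp
      | add b b' h h' => rw [map_add, h, h']
      | tmul r e => simp [muT]
    rw [hid d] at hd
    have h2d : (2 : R ⊗[R] Hens R (SeparableClosure p.asIdeal.ResidueField)) * d = 0 := by
      rw [two_mul]; exact eq_neg_iff_add_eq_zero.1 hd
    have h2B : IsUnit (2 : R ⊗[R] Hens R (SeparableClosure p.asIdeal.ResidueField)) := by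
      simpa [map_ofNat] using h2.map (algebraMap R (R ⊗[R] Hens R (SeparableClosure p.asIdeal.ResidueField)))
    rw [h2B.mul_right_eq_zero.1 h2d] at hu
    exact not_isUnit_zero (M₀ := Hens R (SeparableClosure p.asIdeal.ResidueField))
      (by simpa using hu.map (Algebra.TensorProduct.lid R (Hens R (SeparableClosure p.asIdeal.ResidueField))))
  rcases isClopen_iff.1 (isClopen_sym (t := t) hlam hfix h2 hn hrk hram) with h | h
  swap
  · left
    refine sameType_self_of_all_sym hlam hn hrk t fun p => hasModel_one_iff.1 ?_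
    have := h ▸ Set.mem_univ p
    exact this
  · right
    have hskew : ∀ p : PrimeSpectrum R, Even n ∧
        HasModel (skewStd R n) t (Hens R (SeparableClosure p.asIdeal.ResidueField)) := fun p => by
      rcases normal_form_two (t := t) hlam hfix h2 hn hrk p with h1 | ⟨hev, -, h1, -⟩
      · exact absurd h1 (fun h1 => (h ▸ Set.notMem_empty p) h1)
      · exact ⟨hev, h1⟩
    obtain ⟨hev, -⟩ := hskew (Classical.arbitrary _)
    obtain ⟨m, rfl⟩ := id hev
    refine ⟨1, m, Nat.one_pos, by omega, ?_⟩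
    haveI := isAzumaya_matrix_over (R := R) (A := A) 1 Nat.one_pos
    haveI : Nonempty (Fin 2) := ⟨0⟩
    haveI := CSA.isAzumaya_matrix R (Fin 2)
    haveI := isAzumaya_matrix_over (R := R) (A := Matrix (Fin 2) (Fin 2) R) m (by omega)
    refine locIsoEt_of_forall_hens R (n := m + m) (by omega)
      (fun q => by rw [rankAtStalk_matrix_over 1 (m + m) Nat.one_pos hrk, one_mul])
      (fun q => by
        rw [rankAtStalk_matrix_over m 2 (by omega) (fun q => by rw [rankAtStalk_matrix, Fintype.card_fin, pow_two]),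
          show m * 2 = m + m by ring]) fun p => ?_
    let T := Hens R (SeparableClosure p.asIdeal.ResidueField)
    obtain ⟨ψ, hψ⟩ := hasModel_skew_iff.1 (hskew p).2
    let E : Fin 1 × Fin (m + m) ≃ Fin (m + m) := finProdFinEquiv.trans (finCongr (one_mul _))
    let E' : Fin m × Fin 2 ≃ Fin (m + m) := finProdFinEquiv.trans (finCongr (by ring))
    have e1 := reindex_model E (matModel_isModel hψ 1)
    have hJ' : (Algebra.ofId R (R ⊗[R] T)).mapMatrix (↑J : Matrix (Fin 2) (Fin 2) R) = -skewStd (R ⊗[R] T) 2 := by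
      rw [hJ, skewStd_two]
      ext i j
      fin_cases i <;> fin_cases j <;> simp [TensorProduct.neg_tmul, Algebra.TensorProduct.one_def]
    have hc := conj_model (S := R) (E := T) 2 hlam J (-1) hJt hneg
    rw [hJ'] at hc
    have e2 := reindex_model E' (matModel_isModel hc m)
    have hE : Matrix.reindexAlgEquiv R (R ⊗[R] T) E (Matrix.compAlgEquiv (Fin 1) (Fin (m + m)) (R ⊗[R] T) R
        (Matrix.diagonal fun _ => skewStd (R ⊗[R] T) (m + m))) = skewStd (R ⊗[R] T) (m + m) := by
      ext i j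
      exact congrFun (congrFun (skewStd_blocks (R ⊗[R] T) 1 (m + m) hev) (finCongr (one_mul _).symm i))
        (finCongr (one_mul _).symm j)
    have hE' : Matrix.reindexAlgEquiv R (R ⊗[R] T) E' (Matrix.compAlgEquiv (Fin m) (Fin 2) (R ⊗[R] T) R
        (Matrix.diagonal fun _ => -skewStd (R ⊗[R] T) 2)) = -skewStd (R ⊗[R] T) (m + m) := by
      rw [show (Matrix.diagonal fun _ => -skewStd (R ⊗[R] T) 2 : Matrix (Fin m) (Fin m) _) =
        -(Matrix.diagonal fun _ => skewStd (R ⊗[R] T) 2) from (Matrix.diagonal_neg _).symm, map_neg, map_neg]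
      congr 1
      ext i j
      exact congrFun (congrFun (skewStd_blocks (R ⊗[R] T) m 2 even_two) (finCongr (show m + m = m * 2 by ring) i))
        (finCongr (show m + m = m * 2 by ring) j)
    rw [hE] at e1
    rw [hE'] at e2
    exact hasPair_of_models (isUnit_skewStd _ _ hev) e1 (by simpa using e2.neg)

end firstKind

end Groth.Agent.AzInvLib
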