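import Groth.Agent.AzInvLib.Local
import Groth.Agent.CSA.IntegralSplitUniv

/-! # From models over strict henselizations to local isomorphisms -/

set_option autoImplicit false
set_option linter.style.haveILetI false

open TensorProduct Matrix CategoryTheory

universe u v w w' x y z

namespace Groth.Agent.AzInvLib

open Groth.Agent.Hensel Groth.Agent.CSA

theorem lamTr_map {R : Type u} {R' : Type v} [CommRing R] [CommRing R'] {ι : Type w}
    (f : R → R') (ν : R → R) (ν' : R' → R') (h : ∀ x, ν' (f x) = f (ν x)) (M : Matrix ι ι R) :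
    AzInv.lamTr ν' (M.map f) = (AzInv.lamTr ν M).map f := by
  ext i j; simp [h]

theorem IsModel.map {R : Type v} [CommRing R] {A : Type w} [Ring A] [Algebra R A] {lam : R → R}
    {t : AzInv.LamInv R A lam} {k : Type x} [CommRing k] [Algebra R k] {ν : k → k} {ι : Type u}
    [Fintype ι] [DecidableEq ι] {W : Matrix ι ι k} {ψ : A →ₐ[R] Matrix ι ι k}
    (h : IsModel t ν W ψ) {k' : Type y} [CommRing k'] [Algebra R k'] {ν' : k' → k'} (g : k →ₐ[R] k')
    (hg : ∀ x, ν' (g x) = g (ν x)) : IsModel t ν' (g.mapMatrix W) (g.mapMatrix.comp ψ) := fun a => by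
  show g.mapMatrix (ψ (t a)) * g.mapMatrix W = g.mapMatrix W * AzInv.lamTr ν' (g.mapMatrix (ψ a))
  rw [← map_mul, h a, map_mul, show AzInv.lamTr ν' (g.mapMatrix (ψ a)) =
    g.mapMatrix (AzInv.lamTr ν (ψ a)) from lamTr_map g ν ν' hg (ψ a)]

section

variable {S : Type u} [CommRing S] {R : Type v} [CommRing R] [Algebra S R] {lam : R ≃ₐ[S] R}
  {A : Type w} [Ring A] [Algebra R A] {A' : Type w'} [Ring A'] [Algebra R A']
  (n : ℕ) (t : AzInv.LamInv R A lam) (t' : AzInv.LamInv R A' lam)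

/-- both involutions have models with the same matrix over `R ⊗ E` -/
def HasPair (E : Type x) [CommRing E] [Algebra S E] : Prop :=
  ∃ (W : (Matrix (Fin n) (Fin n) (R ⊗[S] E))ˣ) (ψ : A →ₐ[R] Matrix (Fin n) (Fin n) (R ⊗[S] E))
    (ψ' : A' →ₐ[R] Matrix (Fin n) (Fin n) (R ⊗[S] E)),
    IsModel t (muT E lam) (W : Matrix (Fin n) (Fin n) (R ⊗[S] E)) ψ ∧
      IsModel t' (muT E lam) (W : Matrix (Fin n) (Fin n) (R ⊗[S] E)) ψ'

variable {n t t'}

theorem muT_transMap {K : Type u} [CommRing K] [Algebra S K] {X Y : Nbhd S K} (f : X ⟶ Y)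
    (b : R ⊗[S] X.carrier) :
    muT Y.carrier lam (transMap S R f b) = transMap S R f (muT X.carrier lam b) := by
  induction b using TensorProduct.induction_on with
  | zero => simp
  | add b b' h h' => simp only [map_add, h, h']
  | tmul r e => simp [muT, transMap]

theorem muT_stageMap {K : Type u} [CommRing K] [Algebra S K] (X : Nbhd S K)
    (b : R ⊗[S] X.carrier) :
    muT (Hens S K) lam (stageMap S R X b) = stageMap S R X (muT X.carrier lam b) := by
  induction b using TensorProduct.induction_on with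
  | zero => simp
  | add b b' h h' => simp only [map_add, h, h']
  | tmul r e => simp [muT, stageMap]

theorem span_model {k : Type x} [CommRing k] [Algebra R k] (ν : k →+* k) {W : Matrix (Fin n) (Fin n) k}
    (hν : ∀ r : R, ν (algebraMap R k r) = algebraMap R k (lam r))
    {ψ : A →ₐ[R] Matrix (Fin n) (Fin n) k} {m : ℕ} {a : Fin m → A}
    (hspan : ∀ x, ∃ c : Fin m → R, x = ∑ i, c i • a i)
    (h : ∀ i, ψ (t (a i)) * W = W * AzInv.lamTr ν (ψ (a i))) : IsModel t ν W ψ := by
  intro x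
  obtain ⟨c, rfl⟩ := hspan x
  have h1 : t (∑ i, c i • a i) = ∑ i, lam (c i) • t (a i) := by
    rw [show t (∑ i, c i • a i) = t.toAddMonoidHom (∑ i, c i • a i) from rfl, map_sum]
    exact Finset.sum_congr rfl fun i _ => t.map_smul _ _
  have h2 : AzInv.lamTr ν (ψ (∑ i, c i • a i)) = ∑ i, lam (c i) • AzInv.lamTr ν (ψ (a i)) := by
    ext p q
    simp only [AzInv.lamTr_apply, map_sum, Matrix.sum_apply]
    refine Finset.sum_congr rfl fun i _ => ?_
    rw [map_smul, Matrix.smul_apply, Algebra.smul_def, map_mul, hν, Matrix.smul_apply, Algebra.smul_def, AzInv.lamTr_apply]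
  rw [h1, h2, map_sum, Finset.sum_mul, Finset.mul_sum]
  exact Finset.sum_congr rfl fun i _ => by rw [map_smul, smul_mul_assoc, h, mul_smul_comm]

theorem exists_span_family (R : Type v) [CommRing R] (A : Type w) [Ring A] [Algebra R A]
    [Module.Finite R A] : ∃ (m : ℕ) (a : Fin m → A), ∀ x, ∃ c : Fin m → R, x = ∑ i, c i • a i := by
  classical
  obtain ⟨m, f, hf⟩ := Module.Finite.exists_fin' R A
  refine ⟨m, fun i => f (Pi.single i 1), fun x => ?_⟩
  obtain ⟨c, rfl⟩ := hf x
  exact ⟨c, by conv_lhs => rw [pi_eq_sum_univ' c]; simp⟩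

variable [Module.Finite R A] [Module.Projective R A] [Module.Finite R A'] [Module.Projective R A']

theorem exists_stage_pair {K : Type u} [CommRing K] [Algebra S K]
    (h : HasPair n t t' (Hens S K)) : ∃ X : Nbhd S K, HasPair n t t' X.carrier := by
  classical
  obtain ⟨W, ψ, ψ', hψ, hψ'⟩ := h
  obtain ⟨X₁, φ₁, hφ₁⟩ := exists_stage_algHom A n ψ
  obtain ⟨X₂, φ₂, hφ₂⟩ := exists_stage_algHom A' n ψ'
  let M := Matrix (Fin n) (Fin n) (R ⊗[S] Hens S K)
  obtain ⟨X₃, z, hz⟩ := exists_stage_rep S R (K := K) (fun q : (Fin n × Fin n) ⊕ (Fin n × Fin n) =>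
    Sum.elim (fun p => (W : M) p.1 p.2) (fun p => (↑W⁻¹ : M) p.1 p.2) q)
  obtain ⟨Z, g₁, g₂, g₃, -⟩ : ∃ (Z : Nbhd S K) (_ : X₁ ⟶ Z) (_ : X₂ ⟶ Z) (_ : X₃ ⟶ Z), True :=
    ⟨IsFiltered.max (IsFiltered.max X₁ X₂) X₃,
      IsFiltered.leftToMax X₁ X₂ ≫ IsFiltered.leftToMax _ _,
      IsFiltered.rightToMax X₁ X₂ ≫ IsFiltered.leftToMax _ _, IsFiltered.rightToMax _ _, trivial⟩
  let P₁ := (transMap S R g₁).mapMatrix.comp φ₁
  let P₂ := (transMap S R g₂).mapMatrix.comp φ₂
  let V : Matrix (Fin n) (Fin n) (R ⊗[S] Z.carrier) :=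
    Matrix.of fun i j => transMap S R g₃ (z (Sum.inl (i, j)))
  let V' : Matrix (Fin n) (Fin n) (R ⊗[S] Z.carrier) :=
    Matrix.of fun i j => transMap S R g₃ (z (Sum.inr (i, j)))
  let σ := (stageMap S R Z).mapMatrix (m := Fin n)
  have hP₁ : ∀ a, σ (P₁ a) = ψ a := fun a => by
    rw [← hφ₁]; ext i j; exact stageMap_trans S R g₁ _
  have hP₂ : ∀ a, σ (P₂ a) = ψ' a := fun a => by
    rw [← hφ₂]; ext i j; exact stageMap_trans S R g₂ _
  have hV : σ V = (W : M) := by
    ext i j; exact (stageMap_trans S R g₃ _).trans (hz (Sum.inl (i, j)))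
  have hV' : σ V' = (↑W⁻¹ : M) := by
    ext i j; exact (stageMap_trans S R g₃ _).trans (hz (Sum.inr (i, j)))
  obtain ⟨m, a, ha⟩ := exists_span_family R A
  obtain ⟨m', a', ha'⟩ := exists_span_family R A'
  have htr : ∀ N : Matrix (Fin n) (Fin n) (R ⊗[S] Z.carrier),
      σ (AzInv.lamTr (muT Z.carrier lam) N) = AzInv.lamTr (muT (Hens S K) lam) (σ N) := fun N =>
    (lamTr_map (stageMap S R Z) _ _ (muT_stageMap Z) N).symm
  let eqs : Fin m ⊕ Fin m' ⊕ Bool → Matrix (Fin n) (Fin n) (R ⊗[S] Z.carrier) ×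
      Matrix (Fin n) (Fin n) (R ⊗[S] Z.carrier) := Sum.elim
    (fun i => (P₁ (t (a i)) * V, V * AzInv.lamTr (muT Z.carrier lam) (P₁ (a i))))
    (Sum.elim (fun i => (P₂ (t' (a' i)) * V, V * AzInv.lamTr (muT Z.carrier lam) (P₂ (a' i))))
      (fun b => if b then (V * V', 1) else (V' * V, 1)))
  have heqs : ∀ q, σ (eqs q).1 = σ (eqs q).2 := by
    rintro (i | i | b)
    · simp only [eqs, Sum.elim_inl, map_mul, hP₁, hV, htr]
      exact hψ (a i)
    · simp only [eqs, Sum.elim_inr, Sum.elim_inl, map_mul, hP₂, hV, htr]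
      exact hψ' (a' i)
    · cases b
      · simp only [eqs, Sum.elim_inr, Bool.false_eq_true, if_false, map_mul, map_one, hV, hV', Units.inv_mul]
      · simp only [eqs, Sum.elim_inr, if_true, map_mul, map_one, hV, hV', Units.mul_inv]
  obtain ⟨Y, f, hf⟩ := exists_trans_eq_of_finite S R
    (fun q : (Fin m ⊕ Fin m' ⊕ Bool) × Fin n × Fin n => (eqs q.1).1 q.2.1 q.2.2)
    (fun q => (eqs q.1).2 q.2.1 q.2.2) fun q => congrFun (congrFun (heqs q.1) q.2.1) q.2.2
  let τ := (transMap S R f).mapMatrix (m := Fin n)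
  have hf' : ∀ q, τ (eqs q).1 = τ (eqs q).2 := fun q => by ext i j; exact hf (q, i, j)
  have htr' : ∀ N : Matrix (Fin n) (Fin n) (R ⊗[S] Z.carrier),
      τ (AzInv.lamTr (muT Z.carrier lam) N) = AzInv.lamTr (muT Y.carrier lam) (τ N) := fun N =>
    (lamTr_map (transMap S R f) _ _ (muT_transMap f) N).symm
  have hν : ∀ r : R, (muT Y.carrier lam : _ →ₐ[S] _).toRingHom (algebraMap R _ r) =
      algebraMap R (R ⊗[S] Y.carrier) (lam r) := fun r => by
    show muT Y.carrier lam (r ⊗ₜ[S] 1) = lam r ⊗ₜ[S] 1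
    simp [muT]
  refine ⟨Y, ⟨τ V, τ V', ?_, ?_⟩, τ.comp P₁, τ.comp P₂,
    span_model (muT Y.carrier lam).toRingHom hν ha fun i => ?_,
    span_model (muT Y.carrier lam).toRingHom hν ha' fun i => ?_⟩
  · simpa [eqs] using hf' (Sum.inr (Sum.inr true))
  · simpa [eqs] using hf' (Sum.inr (Sum.inr false))
  · have h := hf' (Sum.inl i)
    simp only [eqs, Sum.elim_inl, map_mul, htr'] at h
    exact h
  · have h := hf' (Sum.inr (Sum.inl i))
    simp only [eqs, Sum.elim_inr, Sum.elim_inl, map_mul, htr'] at h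
    exact h

end

section

variable (S : Type u) [CommRing S] {R : Type v} [CommRing R] [Algebra S R] {lam : R ≃ₐ[S] R}
  {A : Type w} [Ring A] [Algebra S A] [Algebra R A] [IsScalarTower S R A]
  {A' : Type w'} [Ring A'] [Algebra S A'] [Algebra R A'] [IsScalarTower S R A']
  {n : ℕ} {t : AzInv.LamInv R A lam} {t' : AzInv.LamInv R A' lam}

omit [IsScalarTower S R A] in
theorem exists_comb {ι : Type u} [Fintype ι] [DecidableEq ι] (E : ι → Type u) [∀ i, CommRing (E i)]
    [∀ i, Algebra S (E i)] (comb : (∀ i, Matrix (Fin n) (Fin n) (R ⊗[S] E i)) →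
      Matrix (Fin n) (Fin n) (R ⊗[S] (∀ i, E i)))
    (hev : ∀ X i p q, Algebra.TensorProduct.piRight S R R E (comb X p q) i = X i p q)
    {B : Type z} [Ring B] [Algebra R B] (φ : ∀ i, B →ₐ[R] Matrix (Fin n) (Fin n) (R ⊗[S] E i)) :
    ∃ Φ : B →ₐ[R] Matrix (Fin n) (Fin n) (R ⊗[S] (∀ i, E i)), ∀ b, Φ b = comb fun i => φ i b := by
  have hext : ∀ {M N : Matrix (Fin n) (Fin n) (R ⊗[S] (∀ i, E i))},
      (∀ i p q, Algebra.TensorProduct.piRight S R R E (M p q) i =
        Algebra.TensorProduct.piRight S R R E (N p q) i) → M = N := fun {M N} h =>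
    Matrix.ext fun p q => (Algebra.TensorProduct.piRight S R R E).injective (funext fun i => h i p q)
  let L : B →ₗ[R] Matrix (Fin n) (Fin n) (R ⊗[S] (∀ i, E i)) :=
    { toFun := fun b => comb fun i => φ i b
      map_add' := fun b b' => hext fun i p q => by simp [hev]
      map_smul' := fun r b => hext fun i p q => by simp [hev] }
  refine ⟨AlgHom.ofLinearMap L (hext fun i p q => ?_) (fun b b' => hext fun i p q => ?_), fun b => rfl⟩
  · show Algebra.TensorProduct.piRight S R R E (comb (fun i => φ i 1) p q) i = _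
    rw [hev, map_one, Matrix.one_apply, Matrix.one_apply]
    split_ifs <;> simp
  · simp [L, Matrix.mul_apply, hev, map_sum, Finset.sum_apply]

theorem exists_glue {ι : Type u} [Fintype ι] [DecidableEq ι] (E : ι → Type u) [∀ i, CommRing (E i)]
    [∀ i, Algebra S (E i)] (h : ∀ i, HasPair n t t' (E i)) : HasPair n t t' (∀ i, E i) := by
  choose W ψ ψ' hψ hψ' using h
  let e := Algebra.TensorProduct.piRight S R R E
  let comb : (∀ i, Matrix (Fin n) (Fin n) (R ⊗[S] E i)) → Matrix (Fin n) (Fin n) (R ⊗[S] (∀ i, E i)) :=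
    fun X => Matrix.of fun p q => e.symm fun i => X i p q
  have hev : ∀ X i p q, e (comb X p q) i = X i p q := fun X i p q =>
    congrFun (e.apply_symm_apply (fun i => X i p q)) i
  have hext : ∀ {M N : Matrix (Fin n) (Fin n) (R ⊗[S] (∀ i, E i))},
      (∀ i p q, e (M p q) i = e (N p q) i) → M = N := fun {M N} h =>
    Matrix.ext fun p q => e.injective (funext fun i => h i p q)
  have hmul : ∀ X Y, comb X * comb Y = comb fun i => X i * Y i := fun X Y => hext fun i p q => by
    simp [Matrix.mul_apply, hev, map_sum, Finset.sum_apply]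
  have hone : comb (fun _ => 1) = 1 := hext fun i p q => by
    rw [hev, Matrix.one_apply, Matrix.one_apply]
    split_ifs <;> simp
  have hmu : ∀ b i, e (muT (∀ i, E i) lam b) i = muT (E i) lam (e b i) := fun b i => by
    induction b using TensorProduct.induction_on with
    | zero => simp
    | add b b' h h' => simp only [map_add, Pi.add_apply, h, h']
    | tmul r f => simp [e, muT]
  obtain ⟨Φ, hΦ⟩ := exists_comb S E comb hev ψ
  obtain ⟨Φ', hΦ'⟩ := exists_comb S E comb hev ψ'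
  let M : ∀ i, Matrix (Fin n) (Fin n) (R ⊗[S] E i) := fun i => W i
  refine ⟨⟨comb M, comb fun i => (↑(W i)⁻¹ : Matrix (Fin n) (Fin n) (R ⊗[S] E i)),
    by rw [hmul, ← hone]; simp [M], by rw [hmul, ← hone]; simp [M]⟩, Φ, Φ', fun a => ?_, fun a => ?_⟩
  · show Φ (t a) * comb M = comb M * AzInv.lamTr _ (Φ a)
    rw [hΦ, hΦ, show AzInv.lamTr (muT (∀ i, E i) lam) (comb fun i => ψ i a) =
      comb fun i => AzInv.lamTr (muT (E i) lam) (ψ i a) from hext fun i p q => by simp [hmu, hev],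
      hmul, hmul]
    exact congrArg comb (funext fun i => hψ i a)
  · show Φ' (t' a) * comb M = comb M * AzInv.lamTr _ (Φ' a)
    rw [hΦ', hΦ', show AzInv.lamTr (muT (∀ i, E i) lam) (comb fun i => ψ' i a) =
      comb fun i => AzInv.lamTr (muT (E i) lam) (ψ' i a) from hext fun i p q => by simp [hmu, hev],
      hmul, hmul]
    exact congrArg comb (funext fun i => hψ' i a)

theorem model_bc {S' : Type u} [CommRing S'] [Algebra S S']
    (W : (Matrix (Fin n) (Fin n) (R ⊗[S] S'))ˣ)
    {B : Type z} [Ring B] [Algebra S B] [Algebra R B] [IsScalarTower S R B]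
    (τ : AzInv.LamInv R B lam) (φ : B →ₐ[R] Matrix (Fin n) (Fin n) (R ⊗[S] S'))
    (g : S' ⊗[S] B ≃ₐ[S'] Matrix (Fin n) (Fin n) (S' ⊗[S] R))
    (hφ : IsModel τ (muT S' lam) (↑W : Matrix (Fin n) (Fin n) (R ⊗[S] S')) φ)
    (hg : ∀ s b, g (s ⊗ₜ[S] b) = s • (Algebra.TensorProduct.comm S R S').toAlgHom.mapMatrix (φ b))
    (y : S' ⊗[S] B) :
    g (τ.bc S lam S' y) * (Algebra.TensorProduct.comm S R S').toAlgHom.mapMatrix ↑W =
      (Algebra.TensorProduct.comm S R S').toAlgHom.mapMatrix ↑W *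
        AzInv.lamTr (Algebra.TensorProduct.map (AlgHom.id S' S') lam.toAlgHom :
          S' ⊗[S] R →ₐ[S'] S' ⊗[S] R) (g y) := by
  let ν : S' ⊗[S] R →ₐ[S'] S' ⊗[S] R := Algebra.TensorProduct.map (AlgHom.id S' S') lam.toAlgHom
  let c := (Algebra.TensorProduct.comm S R S').toAlgHom.mapMatrix (m := Fin n)
  have hν : ∀ b, ν (Algebra.TensorProduct.comm S R S' b) =
      Algebra.TensorProduct.comm S R S' (muT S' lam b) := fun b => by
    induction b using TensorProduct.induction_on with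
    | zero => simp
    | add b b' h h' => simp only [map_add, h, h']
    | tmul r e => simp [ν, muT]
  have hadd : ∀ M N : Matrix (Fin n) (Fin n) (S' ⊗[S] R),
      AzInv.lamTr ν (M + N) = AzInv.lamTr ν M + AzInv.lamTr ν N := fun M N => by ext p q; simp
  have hsmul : ∀ (s : S') (M : Matrix (Fin n) (Fin n) (S' ⊗[S] R)),
      AzInv.lamTr ν (s • M) = s • AzInv.lamTr ν M := fun s M => by ext p q; simp
  show g (τ.bc S lam S' y) * c ↑W = c ↑W * AzInv.lamTr ν (g y)
  induction y using TensorProduct.induction_on with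
  | zero =>
    have h0 : AzInv.lamTr ν (0 : Matrix (Fin n) (Fin n) (S' ⊗[S] R)) = 0 := by ext p q; simp
    simp [h0]
  | add y y' h h' => rw [map_add, map_add, add_mul, h, h', map_add, hadd, mul_add]
  | tmul s b =>
    rw [AzInv.LamInv.bc_tmul, hg, hg]
    show s • c (φ (τ b)) * c ↑W = c ↑W * AzInv.lamTr ν (s • c (φ b))
    rw [hsmul, smul_mul_assoc, mul_smul_comm, ← map_mul, hφ b, map_mul,
      show AzInv.lamTr ν (c (φ b)) = c (AzInv.lamTr (muT S' lam) (φ b)) from
        lamTr_map _ _ _ hν (φ b)]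

variable [IsAzumaya R A] [IsAzumaya R A']

theorem locIsoEt_of_hasPair (hn : n ≠ 0)
    (hA : ∀ q : PrimeSpectrum R, Module.rankAtStalk (R := R) A q = n ^ 2)
    (hA' : ∀ q : PrimeSpectrum R, Module.rankAtStalk (R := R) A' q = n ^ 2)
    (S' : Type u) [CommRing S'] [Algebra S S'] [Algebra.Etale S S'] [Module.FaithfullyFlat S S']
    (h : HasPair n t t' S') : AzInv.LocIsoEt S lam t t' := by
  obtain ⟨W, ψ, ψ', hψ, hψ'⟩ := h
  obtain ⟨f, hf, hfR⟩ := exists_algEquiv_of_algHom' S' n hn hA ψ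
  obtain ⟨f', hf', hfR'⟩ := exists_algEquiv_of_algHom' S' n hn hA' ψ'
  refine ⟨S', inferInstance, inferInstance, inferInstance, inferInstance, f.trans f'.symm,
    fun r x => ?_, fun x => ?_⟩
  · show f'.symm (f _) = _ * f'.symm (f x)
    apply f'.injective
    rw [hfR', AlgEquiv.apply_symm_apply, AlgEquiv.apply_symm_apply, hfR]
  let c := (Algebra.TensorProduct.comm S R S').toAlgHom.mapMatrix (m := Fin n)
  let Wc : Matrix (Fin n) (Fin n) (S' ⊗[S] R) := c ↑W
  show f'.symm (f (t.bc S lam S' x)) = t'.bc S lam S' (f'.symm (f x))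
  apply f'.injective
  rw [AlgEquiv.apply_symm_apply]
  apply (show IsUnit Wc from W.isUnit.map c).mul_left_injective
  show f (t.bc S lam S' x) * Wc = f' (t'.bc S lam S' (f'.symm (f x))) * Wc
  rw [model_bc S W t ψ f hψ hf, model_bc S W t' ψ' f' hψ' hf', AlgEquiv.apply_symm_apply]

/-- local isomorphism from pairs of models over all strict henselizations -/
theorem locIsoEt_of_forall_hens (hn : n ≠ 0)
    (hA : ∀ q : PrimeSpectrum R, Module.rankAtStalk (R := R) A q = n ^ 2)
    (hA' : ∀ q : PrimeSpectrum R, Module.rankAtStalk (R := R) A' q = n ^ 2)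
    (h : ∀ p : PrimeSpectrum S, HasPair n t t' (Hens S (SeparableClosure p.asIdeal.ResidueField))) :
    AzInv.LocIsoEt S lam t t' := by
  classical
  have h' : ∀ p : PrimeSpectrum S, ∃ (E : Type u) (_ : CommRing E) (_ : Algebra S E)
      (_ : Algebra.Etale S E) (P : PrimeSpectrum E),
      PrimeSpectrum.comap (algebraMap S E) P = p ∧ HasPair n t t' E := fun p => by
    obtain ⟨X, hX⟩ := exists_stage_pair (h p)
    refine ⟨X.carrier, inferInstance, inferInstance, inferInstance,
      ⟨RingHom.ker X.point.toRingHom, RingHom.ker_isPrime _⟩, PrimeSpectrum.ext ?_, hX⟩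
    ext c
    show X.point (algebraMap S X.carrier c) = 0 ↔ c ∈ p.asIdeal
    rw [AlgHom.commutes, IsScalarTower.algebraMap_apply S p.asIdeal.ResidueField
      (SeparableClosure p.asIdeal.ResidueField), map_eq_zero, Ideal.algebraMap_residueField_eq_zero]
  choose E i1 i2 i3 P hP hE using h'
  letI := fun p => i1 p
  letI := fun p => i2 p
  have hopen : ∀ p, IsOpen (Set.range (PrimeSpectrum.comap (algebraMap S (E p)))) := fun p => by
    haveI := i3 p
    exact (PrimeSpectrum.isOpenMap_comap_of_hasGoingDown_of_finitePresentation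
      (R := S) (S := E p)).isOpen_range
  obtain ⟨fin, ht⟩ := isCompact_univ.elim_finite_subcover _ hopen
    (fun p _ => Set.mem_iUnion.2 ⟨p, P p, hP p⟩)
  let S' := Π p : fin, E p.1
  haveI : ∀ p : fin, Algebra.Etale S (E p.1) := fun p => i3 p.1
  haveI : Module.Flat S S' := Module.Flat.of_linearEquiv
    (DFinsupp.linearEquivFunOnFintype (R := S) (M := fun p : fin => E p.1)).symm
  have hsurj : Function.Surjective (PrimeSpectrum.comap (algebraMap S S')) := by
    intro p
    obtain ⟨q, hq, Q, hQ⟩ : ∃ q ∈ fin, p ∈ Set.range (PrimeSpectrum.comap (algebraMap S (E q))) := by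
      simpa using ht (Set.mem_univ p)
    let π : S' →ₐ[S] E q := Pi.evalAlgHom S (fun i : fin => E i.1) ⟨q, hq⟩
    refine ⟨PrimeSpectrum.comap π.toRingHom Q, ?_⟩
    rw [← PrimeSpectrum.comap_comp_apply,
      show (π.toRingHom).comp (algebraMap S S') = algebraMap S (E q) from π.comp_algebraMap, hQ]
  haveI : Module.FaithfullyFlat S S' := Module.FaithfullyFlat.of_comap_surjective hsurj
  exact locIsoEt_of_hasPair S hn hA hA' S' (exists_glue S (fun p : fin => E p.1) fun p => hE p.1)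

end

end Groth.Agent.AzInvLib
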