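import Groth.Agent.AzInvLib.Glue
import Groth.Agent.CSA.Morita

/-! # Symmetric and alternating models exclude each other -/

set_option autoImplicit false
set_option linter.style.haveILetI false

open TensorProduct Matrix

universe u v w w' x y z z'

namespace Groth.Agent.AzInvLib

/-- over a field of characteristic not 2 symmetric and skew forms are not interchanged -/
theorem no_sym_skew_equiv {K : Type x} [Field K] (h2 : (2 : K) ≠ 0) {ι : Type z} [Fintype ι]
    [DecidableEq ι] [Nonempty ι] {κ : Type z'} [Fintype κ] [DecidableEq κ]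
    (θ : Matrix ι ι K ≃ₐ[K] Matrix κ κ K) {W : Matrix ι ι K} (hW : IsUnit W) (hWs : Wᵀ = W)
    {W' : Matrix κ κ K} (hW' : IsUnit W') (hWs' : W'ᵀ = -W')
    (h : ∀ x y, y * W = W * xᵀ → θ y * W' = W' * (θ x)ᵀ) : False := by
  classical
  have hcard : Fintype.card ι = Fintype.card κ := by
    have h := θ.toLinearEquiv.finrank_eq
    rw [Module.finrank_matrix, Module.finrank_matrix, Module.finrank_self] at h
    simpa [← pow_two] using h
  let e : κ ≃ ι := (Fintype.equivOfCardEq hcard).symm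
  let ρ := Matrix.reindexAlgEquiv K K e
  obtain ⟨u, hu⟩ := CSA.exists_conj_of_algHom_matrix (ρ.toAlgHom.comp θ.toAlgHom)
  obtain ⟨W, rfl⟩ := hW
  set V := ρ W' with hV
  have hVu : IsUnit V := hW'.map ρ
  have hVs : Vᵀ = -V := by
    simp [hV, ρ, Matrix.reindexAlgEquiv_apply, Matrix.transpose_submatrix, hWs']
    rfl
  have hρt : ∀ X : Matrix κ κ K, ρ Xᵀ = (ρ X)ᵀ := fun X => by
    simp [ρ, Matrix.reindexAlgEquiv_apply, Matrix.transpose_submatrix]
  -- transport the compatibility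
  have key : ∀ x : Matrix ι ι K, ((↑u : Matrix ι ι K) * ((↑W : Matrix ι ι K) * xᵀ * (↑W⁻¹ : Matrix ι ι K)) * (↑u⁻¹ : Matrix ι ι K)) * V =
      V * ((↑u : Matrix ι ι K) * x * (↑u⁻¹ : Matrix ι ι K))ᵀ := fun x => by
    have h1 := h x ((↑W : Matrix ι ι K) * xᵀ * (↑W⁻¹ : Matrix ι ι K)) (by simp [mul_assoc])
    have h2 := congrArg ρ h1
    rw [map_mul ρ, map_mul ρ W', hρt] at h2
    rw [← hu, ← hu]
    exact h2
  set D := (↑W⁻¹ : Matrix ι ι K) * (↑u⁻¹ : Matrix ι ι K) * V * (↑u⁻¹ : Matrix ι ι K)ᵀ with hD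
  have htu : ∀ z : Matrix ι ι K, (↑u : Matrix ι ι K)ᵀ * ((↑u⁻¹ : Matrix ι ι K)ᵀ * z) = z := fun z => by
    rw [← mul_assoc, ← Matrix.transpose_mul, Units.inv_mul, Matrix.transpose_one, one_mul]
  have hcomm : ∀ x : Matrix ι ι K, xᵀ * D = D * xᵀ := fun x => by
    have h1 := congrArg (fun z => (↑W⁻¹ : Matrix ι ι K) * ((↑u⁻¹ : Matrix ι ι K) * (z *
      (↑u⁻¹ : Matrix ι ι K)ᵀ))) (key x)
    simp only [Matrix.transpose_mul, mul_assoc, Units.inv_mul_cancel_left] at h1
    rw [hD]
    simp only [mul_assoc]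
    rw [h1, ← Matrix.transpose_mul, Units.inv_mul, Matrix.transpose_one, mul_one]
  obtain ⟨d, hd⟩ := Matrix.mem_range_scalar_of_commute_single (M := D) fun i j _ => by
    have := hcomm (Matrix.single i j (1 : K))ᵀ
    rwa [Matrix.transpose_transpose] at this
  have hVd : V = d • ((↑u : Matrix ι ι K) * (↑W : Matrix ι ι K) * (↑u : Matrix ι ι K)ᵀ) := by
    have h1 : (↑u : Matrix ι ι K) * (↑W : Matrix ι ι K) * D * (↑u : Matrix ι ι K)ᵀ = V := by
      simp [hD, mul_assoc, ← Matrix.transpose_mul]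
    rw [← h1, ← hd, Matrix.scalar_apply, ← Matrix.smul_one_eq_diagonal, mul_smul_comm, mul_one,
      smul_mul_assoc]
  have hsym : Vᵀ = V := by
    rw [hVd, Matrix.transpose_smul, Matrix.transpose_mul, Matrix.transpose_mul,
      Matrix.transpose_transpose, hWs, mul_assoc]
  have h0 : (2 : K) • V = 0 := by
    rw [two_smul]
    nth_rewrite 1 [← hsym]
    rw [hVs, neg_add_cancel]
  rw [(smul_eq_zero.1 h0).resolve_left h2] at hVu
  exact not_isUnit_zero hVu

variable {R : Type v} [CommRing R] {A : Type w} [Ring A] [Algebra R A]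
  {K : Type x} [Field K] [Algebra R K] {lam : R → R} {t : AzInv.LamInv R A lam}

/-- models with symmetric and skew matrix exclude each other -/
theorem no_sym_skew_models (h2 : (2 : K) ≠ 0) {ι : Type z} [Fintype ι] [DecidableEq ι] [Nonempty ι]
    {κ : Type z'} [Fintype κ] [DecidableEq κ] [Nonempty κ]
    {W : Matrix ι ι K} (hW : IsUnit W) (hWs : Wᵀ = W) {ψ : A →ₐ[R] Matrix ι ι K}
    (hψ : IsModel t id W ψ)
    (hbij : Function.Bijective (Algebra.TensorProduct.lift (Algebra.ofId K (Matrix ι ι K)) ψ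
      fun b a => Algebra.commutes b (ψ a)))
    {W' : Matrix κ κ K} (hW' : IsUnit W') (hWs' : W'ᵀ = -W') {χ : A →ₐ[R] Matrix κ κ K}
    (hχ : IsModel t id W' χ) (hspan : Submodule.span K (Set.range χ) = ⊤) : False := by
  classical
  let Φ := AlgEquiv.ofBijective _ hbij
  let X : K ⊗[R] A →ₐ[K] Matrix κ κ K :=
    Algebra.TensorProduct.lift (Algebra.ofId K _) χ fun b a => Algebra.commutes b (χ a)
  have hX : Function.Surjective X := by
    intro m
    have hm : m ∈ Submodule.span K (Set.range χ) := hspan ▸ Submodule.mem_top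
    have hle : Submodule.span K (Set.range χ) ≤ LinearMap.range X.toLinearMap :=
      Submodule.span_le.2 (by rintro _ ⟨a, rfl⟩; exact ⟨1 ⊗ₜ a, by simp [X]⟩)
    exact hle hm
  let θ₀ : Matrix ι ι K →ₐ[K] Matrix κ κ K := X.comp Φ.symm.toAlgHom
  have hθ : Function.Bijective θ₀ :=
    ⟨RingHom.injective θ₀.toRingHom, hX.comp Φ.symm.surjective⟩
  refine no_sym_skew_equiv h2 (AlgEquiv.ofBijective θ₀ hθ) hW hWs hW' hWs' fun x y hxy => ?_
  obtain ⟨p, rfl⟩ := Φ.surjective x
  obtain ⟨q, rfl⟩ := Φ.surjective y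
  show θ₀ (Φ q) * W' = W' * (θ₀ (Φ p))ᵀ
  have hθΦ : ∀ z, θ₀ (Φ z) = X z := fun z => by simp [θ₀]
  rw [hθΦ, hθΦ]
  have hex : ∀ z : K ⊗[R] A, ∃ z', Φ z' * W = W * (Φ z)ᵀ ∧ X z' * W' = W' * (X z)ᵀ := fun z => by
    induction z using TensorProduct.induction_on with
    | zero => exact ⟨0, by simp, by simp⟩
    | add a b ha hb =>
      obtain ⟨a', ha1, ha2⟩ := ha
      obtain ⟨b', hb1, hb2⟩ := hb
      exact ⟨a' + b', by rw [map_add, map_add, add_mul, ha1, hb1, Matrix.transpose_add, mul_add],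
        by rw [map_add, map_add, add_mul, ha2, hb2, Matrix.transpose_add, mul_add]⟩
    | tmul c a =>
      refine ⟨c ⊗ₜ t a, ?_, ?_⟩
      · have h := hψ a
        rw [show ∀ M : Matrix ι ι K, AzInv.lamTr id M = Mᵀ from fun M => by ext i j; simp] at h
        simp only [Φ, AlgEquiv.coe_ofBijective, Algebra.TensorProduct.lift_tmul, Algebra.ofId_apply,
          Algebra.algebraMap_eq_smul_one, smul_mul_assoc, one_mul, Matrix.transpose_smul, mul_smul_comm, h]
      · have h := hχ a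
        rw [show ∀ M : Matrix κ κ K, AzInv.lamTr id M = Mᵀ from fun M => by ext i j; simp] at h
        simp only [X, Algebra.TensorProduct.lift_tmul, Algebra.ofId_apply,
          Algebra.algebraMap_eq_smul_one, smul_mul_assoc, one_mul, Matrix.transpose_smul, mul_smul_comm, h]
  obtain ⟨p', hp', hp''⟩ := hex p
  have hq : p' = q := Φ.injective (hW.mul_left_injective (hp'.trans hxy.symm))
  exact hq ▸ hp''

end Groth.Agent.AzInvLib
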