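import Groth.Agent.AzInvLib.Congr
import Groth.Agent.CSA.GlobalSplit
import Groth.Agent.CSA.BaseInner
import Groth.Agent.CSA.Ideal
import Groth.Agent.Hensel.EtaleLift
import Groth.Prelude.Def_AzInv
import Groth.Prelude.Def_W4c2azumayainvolQEt
import Mathlib.RingTheory.Flat.Basic

/-! # Normal form of a `lam`-involution over a local base with square roots -/

set_option autoImplicit false
set_option linter.style.haveILetI false

open TensorProduct Matrix

universe u v w x

namespace Groth.Agent.AzInvLib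

/-- `ψ` carries `t` to the involution `X ↦ W (ν-transpose X) W⁻¹` -/
def IsModel {R : Type v} [CommRing R] {A : Type w} [Ring A] [Algebra R A] {lam : R → R}
    (t : AzInv.LamInv R A lam) {k : Type x} [CommRing k] [Algebra R k] (ν : k → k) {ι : Type u}
    [Fintype ι] [DecidableEq ι] (W : Matrix ι ι k) (ψ : A →ₐ[R] Matrix ι ι k) : Prop :=
  ∀ a : A, ψ (t a) * W = W * AzInv.lamTr ν (ψ a)

theorem isIntegral_of_isFixedRing {S : Type u} {R : Type v} [CommRing S] [CommRing R] [Algebra S R]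
    (lam : R ≃ₐ[S] R) (hlam : ∀ r, lam (lam r) = r) (hfix : RInv.IsFixedRing S R lam.toRingEquiv) :
    Algebra.IsIntegral S R := ⟨fun r => by
  obtain ⟨a, ha⟩ := (hfix.2 (r + lam r)).1 (by
    show lam (r + lam r) = _
    rw [map_add, hlam, add_comm])
  obtain ⟨b, hb⟩ := (hfix.2 (r * lam r)).1 (by
    show lam (r * lam r) = _
    rw [map_mul, hlam, mul_comm])
  refine ⟨Polynomial.X ^ 2 - Polynomial.C a * Polynomial.X + Polynomial.C b, ?_, ?_⟩
  · monicity!
  · simp [Polynomial.eval₂_add, Polynomial.eval₂_sub, ha, hb]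
    ring⟩

section

variable {S : Type u} [CommRing S] {R : Type v} [CommRing R] [Algebra S R]
variable (T : Type x) [CommRing T] [Algebra S T]

/-- the base-changed involution of `R ⊗ T` -/
noncomputable def muT (lam : R ≃ₐ[S] R) : R ⊗[S] T →ₐ[S] R ⊗[S] T :=
  Algebra.TensorProduct.map lam.toAlgHom (AlgHom.id S T)

theorem muT_muT (lam : R ≃ₐ[S] R) (hlam : ∀ r, lam (lam r) = r) (b : R ⊗[S] T) :
    muT T lam (muT T lam b) = b := by
  induction b using TensorProduct.induction_on with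
  | zero => simp
  | add x y hx hy => simp only [map_add, hx, hy]
  | tmul r s => simp [muT, hlam]

/-- the induced star structure -/
@[reducible] noncomputable def starB (lam : R ≃ₐ[S] R) (hlam : ∀ r, lam (lam r) = r) :
    StarRing (R ⊗[S] T) where
  star := muT T lam
  star_involutive := muT_muT T lam hlam
  star_mul a b := by rw [show muT T lam (a * b) = muT T lam a * muT T lam b from map_mul _ _ _, mul_comm]
  star_add a b := map_add _ _ _

theorem exists_of_fixed [Module.Flat S T] (lam : R ≃ₐ[S] R)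
    (hfix : RInv.IsFixedRing S R lam.toRingEquiv) (b : R ⊗[S] T) (hb : muT T lam b = b) :
    ∃ c : T, b = (1 : R) ⊗ₜ[S] c := by
  let d : R →ₗ[S] R := lam.toLinearMap - LinearMap.id
  have hexact : Function.Exact (Algebra.linearMap S R) d := fun r =>
    ⟨fun h => (hfix.2 r).1 (sub_eq_zero.1 h), fun ⟨c, hc⟩ => by
      subst hc; simp [d]⟩
  have hd : ∀ y : R ⊗[S] T, d.rTensor T y = muT T lam y - y := fun y => by
    induction y using TensorProduct.induction_on with
    | zero => simp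
    | add x y hx hy => simp only [map_add, hx, hy]; abel
    | tmul r s => simp [d, muT, TensorProduct.sub_tmul]
  obtain ⟨w, hw⟩ := (Module.Flat.rTensor_exact T hexact b).1 (by rw [hd, hb, sub_self])
  refine ⟨TensorProduct.lid S T w, ?_⟩
  rw [← hw]
  clear hw
  induction w using TensorProduct.induction_on with
  | zero => simp
  | add x y hx hy => rw [map_add, map_add, TensorProduct.tmul_add, hx, hy]
  | tmul c s =>
    simp [TensorProduct.tmul_smul, TensorProduct.smul_tmul', Algebra.algebraMap_eq_smul_one]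

theorem includeRight_injective [Module.Flat S T] (hinj : Function.Injective (algebraMap S R)) :
    Function.Injective (fun c : T => (1 : R) ⊗ₜ[S] c) := by
  intro a b h
  apply (TensorProduct.lid S T).symm.injective
  apply Module.Flat.rTensor_preserves_injective_linearMap (M := T) (Algebra.linearMap S R) hinj
  simpa using h

variable [IsLocalRing T]

theorem good [Module.Flat S T] (lam : R ≃ₐ[S] R) (hlam : ∀ r, lam (lam r) = r)
    (hfix : RInv.IsFixedRing S R lam.toRingEquiv) (hsq : ∀ c : Tˣ, ∃ y : T, y * y = c) :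
    letI := starB T lam hlam
    Good (R ⊗[S] T) := by
  letI := starB T lam hlam
  haveI := isIntegral_of_isFixedRing lam hlam hfix
  haveI : Nontrivial (R ⊗[S] T) := (includeRight_injective T hfix.1).nontrivial
  letI : Algebra T (R ⊗[S] T) := Algebra.TensorProduct.rightAlgebra
  haveI : Algebra.IsIntegral T (R ⊗[S] T) := ⟨fun b => by
    induction b using TensorProduct.induction_on with
    | zero => exact isIntegral_zero
    | add x y hx hy => exact hx.add hy
    | tmul r s =>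
      have h1 : r ⊗ₜ[S] s = (r ⊗ₜ[S] (1 : T)) * algebraMap T (R ⊗[S] T) s := by
        show _ = (r ⊗ₜ[S] (1 : T)) * ((1 : R) ⊗ₜ[S] s)
        rw [Algebra.TensorProduct.tmul_mul_tmul, mul_one, one_mul]
      rw [h1]
      refine IsIntegral.mul ?_ isIntegral_algebraMap
      obtain ⟨P, hPm, hP⟩ := Algebra.IsIntegral.isIntegral (R := S) r
      refine ⟨P.map (algebraMap S T), hPm.map _, ?_⟩
      rw [Polynomial.eval₂_map]
      have h2 : (algebraMap T (R ⊗[S] T)).comp (algebraMap S T) =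
          (Algebra.TensorProduct.includeLeft : R →ₐ[S] R ⊗[S] T).toRingHom.comp (algebraMap S R) := by
        ext c
        show (1 : R) ⊗ₜ[S] algebraMap S T c = algebraMap S R c ⊗ₜ[S] (1 : T)
        rw [Algebra.TensorProduct.tmul_one_eq_one_tmul]
      rw [h2]
      exact (Polynomial.hom_eval₂ P (algebraMap S R)
        (Algebra.TensorProduct.includeLeft : R →ₐ[S] R ⊗[S] T).toRingHom r).symm.trans
          (by rw [hP, map_zero])⟩
  refine ⟨fun b hb => ?_, fun b hb hu => ?_, inferInstance⟩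
  · obtain ⟨c, rfl⟩ := exists_of_fixed T lam hfix b hb
    by_cases hc : IsUnit c
    · exact Or.inl (hc.map (Algebra.TensorProduct.includeRight : T →ₐ[S] R ⊗[S] T))
    · refine Or.inr (Ideal.mem_sInf.2 fun {M} hM => ?_)
      haveI := hM.2
      have h := Ideal.isMaximal_comap_of_isIntegral_of_isMaximal (R := T) M
      have : c ∈ M.comap (algebraMap T (R ⊗[S] T)) := by
        rw [IsLocalRing.eq_maximalIdeal h]; exact hc
      exact this
  · obtain ⟨c, rfl⟩ := exists_of_fixed T lam hfix b hb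
    have hc : IsUnit c := by
      by_contra hc
      haveI := hu
      obtain ⟨M, hM⟩ := Ideal.exists_maximal (R ⊗[S] T)
      have h := Ideal.isMaximal_comap_of_isIntegral_of_isMaximal (R := T) M
      have : c ∈ M.comap (algebraMap T (R ⊗[S] T)) := by
        rw [IsLocalRing.eq_maximalIdeal h]; exact hc
      exact hM.ne_top (Ideal.eq_top_of_isUnit_mem _ this hu)
    obtain ⟨y, hy⟩ := hsq hc.unit
    refine ⟨(1 : R) ⊗ₜ y, ?_, by rw [Algebra.TensorProduct.tmul_mul_tmul, one_mul, hy, hc.unit_spec]⟩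
    show muT T lam ((1 : R) ⊗ₜ y) = _
    simp [muT]

theorem exists_anti_of_isQuadEtale [Module.Flat S T] (lam : R ≃ₐ[S] R) (hlam : ∀ r, lam (lam r) = r)
    (hfix : RInv.IsFixedRing S R lam.toRingEquiv) (hsq : ∀ c : Tˣ, ∃ y : T, y * y = c)
    (hq : RInv.IsQuadEtale S R) :
    letI := starB T lam hlam
    ∃ d : R ⊗[S] T, star d = -d ∧ IsUnit d ∧ ∃ b : R ⊗[S] T, IsUnit (b + star b) := by
  letI := starB T lam hlam
  have hB := good T lam hlam hfix hsq
  obtain ⟨hfin, hproj, hunr, hrk⟩ := hq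
  haveI := hfin; haveI := hproj; haveI := hunr
  have key : ¬ ∀ b : R ⊗[S] T, b - star b ∈ Ideal.jacobson (⊥ : Ideal (R ⊗[S] T)) := by
    intro h
    let f : R →ₐ[S] R ⊗[S] T := Algebra.TensorProduct.includeLeft
    let g : R →ₐ[S] R ⊗[S] T := (muT T lam).comp Algebra.TensorProduct.includeLeft
    have hfg : f = g := Hensel.algHom_ext_of_unramified (R := S) (S := R) (T := R ⊗[S] T) le_rfl
      fun r => h (r ⊗ₜ 1)
    have hmu : ∀ b : R ⊗[S] T, muT T lam b = b := fun b => by
      induction b using TensorProduct.induction_on with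
      | zero => simp
      | add x y hx hy => simp only [map_add, hx, hy]
      | tmul r s =>
        have h1 : r ⊗ₜ[S] (1 : T) = muT T lam (r ⊗ₜ 1) := DFunLike.congr_fun hfg r
        calc muT T lam (r ⊗ₜ s) = muT T lam (r ⊗ₜ 1) * muT T lam ((1 : R) ⊗ₜ s) := by
              rw [← map_mul, Algebra.TensorProduct.tmul_mul_tmul, mul_one, one_mul]
          _ = _ := by
              rw [← h1, show muT T lam ((1 : R) ⊗ₜ s) = (1 : R) ⊗ₜ s by simp [muT],
                Algebra.TensorProduct.tmul_mul_tmul, mul_one, one_mul]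
    haveI : Module.Flat T (T ⊗[S] R) := inferInstance
    have hbij : Function.Bijective (Algebra.linearMap T (T ⊗[S] R)) := by
      refine ⟨fun a b h => ?_, fun y => ?_⟩
      · apply includeRight_injective T hfix.1
        simpa using congrArg (Algebra.TensorProduct.comm S T R) h
      · obtain ⟨c, hc⟩ := exists_of_fixed T lam hfix (Algebra.TensorProduct.comm S T R y) (hmu _)
        refine ⟨c, (Algebra.TensorProduct.comm S T R).injective ?_⟩
        rw [hc]; simp
    let p : PrimeSpectrum T := ⟨IsLocalRing.maximalIdeal T, inferInstance⟩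
    have h2 := congrFun (Module.rankAtStalk_eq_of_equiv (LinearEquiv.ofBijective _ hbij)) p
    rw [Module.rankAtStalk_baseChange, hrk, Module.rankAtStalk_self] at h2
    simp at h2
  push Not at key
  obtain ⟨β, hβ⟩ := key
  have hd : IsUnit (β - star β) := by
    refine (hB.dich ((β - star β) * (β - star β)) ?_).elim isUnit_of_mul_isUnit_left fun h => absurd ?_ hβ
    · rw [star_mul', star_sub, star_star]; ring
    · exact Ideal.mem_sInf.2 fun {M} hM =>
        (hM.2.isPrime.mem_or_mem (Ideal.mem_sInf.1 h hM)).elim id id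
  refine ⟨_, by rw [star_sub, star_star, neg_sub], hd, ?_⟩
  by_contra h
  push Not at h
  have hm : ∀ b : R ⊗[S] T, b + star b ∈ Ideal.jacobson (⊥ : Ideal (R ⊗[S] T)) := fun b =>
    hB.mem_of_not_isUnit (by rw [star_add, star_star, add_comm]) (h b)
  refine hβ ?_
  rw [show β - star β = (β + star β) - (1 + star (1 : R ⊗[S] T)) * star β by rw [star_one]; ring]
  exact sub_mem (hm β) (Ideal.mul_mem_right _ _ (hm 1))

variable {A : Type w} [Ring A] [Algebra R A]

set_option maxHeartbeats 800000 in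
/-- the normal form over `R ⊗ T` -/
theorem exists_normal_form [Module.Flat S T] (lam : R ≃ₐ[S] R) (hlam : ∀ r, lam (lam r) = r)
    (hfix : RInv.IsFixedRing S R lam.toRingEquiv) (hsq : ∀ c : Tˣ, ∃ y : T, y * y = c)
    (n : ℕ) (hn : 0 < n) [IsAzumaya R A]
    (hrk : ∀ q : PrimeSpectrum R, Module.rankAtStalk (R := R) A q = n ^ 2)
    (hcond : IsUnit (2 : S) ∨ RInv.IsQuadEtale S R ∨ Odd n) (t : AzInv.LamInv R A lam)
    (ψ₀ : A →ₐ[R] Matrix (Fin n) (Fin n) (R ⊗[S] T)) :
    (∃ ψ, IsModel t (muT T lam) (1 : Matrix (Fin n) (Fin n) (R ⊗[S] T)) ψ) ∨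
    (IsUnit (2 : R ⊗[S] T) ∧ Even n ∧ (∀ d : R ⊗[S] T, muT T lam d = -d → ¬ IsUnit d) ∧
      ∃ ψ, IsModel t (muT T lam) (skewStd (R ⊗[S] T) n) ψ) := by
  classical
  letI := starB T lam hlam
  have hB := good T lam hlam hfix hsq
  haveI := hB.nontriv
  haveI : Nonempty (Fin n) := ⟨⟨0, hn⟩⟩
  haveI := isIntegral_of_isFixedRing lam hlam hfix
  haveI := CSA.isAzumaya_baseChange R (R ⊗[S] T) A
  haveI := CSA.isAzumaya_matrix (R ⊗[S] T) (Fin n)
  let Φ₀ : (R ⊗[S] T) ⊗[R] A →ₐ[R ⊗[S] T] Matrix (Fin n) (Fin n) (R ⊗[S] T) :=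
    Algebra.TensorProduct.lift (Algebra.ofId _ _) ψ₀ fun b a => Algebra.commutes b (ψ₀ a)
  have hΦ : Function.Bijective Φ₀ := CSA.algHom_bijective_of_rankAtStalk_eq _ Φ₀ fun P => by
    rw [Module.rankAtStalk_baseChange, hrk, CSA.rankAtStalk_matrix, Fintype.card_fin, pow_two]
  let Φ := AlgEquiv.ofBijective Φ₀ hΦ
  let tB₀ : (R ⊗[S] T) →+ A →+ (R ⊗[S] T) ⊗[R] A := AddMonoidHom.mk'
    (fun b => AddMonoidHom.mk' (fun a => star b ⊗ₜ[R] t a)
      fun a a' => by rw [t.map_add, TensorProduct.tmul_add])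
    fun b b' => by
      ext a
      show star (b + b') ⊗ₜ[R] t a = star b ⊗ₜ[R] t a + star b' ⊗ₜ[R] t a
      rw [star_add, TensorProduct.add_tmul]
  let tB : (R ⊗[S] T) ⊗[R] A →+ (R ⊗[S] T) ⊗[R] A := TensorProduct.liftAddHom tB₀ <|
    fun r b a => by
      show star (r • b) ⊗ₜ[R] t a = star b ⊗ₜ[R] t (r • a)
      rw [t.map_smul, Algebra.smul_def, star_mul', TensorProduct.tmul_smul, TensorProduct.smul_tmul',
        Algebra.smul_def]
      congr 1
  have tBmul : ∀ x y, tB (x * y) = tB y * tB x := fun x y => by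
    induction x using TensorProduct.induction_on with
    | zero => simp
    | add a a' h h' => rw [add_mul, map_add, h, h', map_add, mul_add]
    | tmul b a =>
      induction y using TensorProduct.induction_on with
      | zero => simp
      | add c c' h h' => rw [mul_add, map_add, h, h', map_add, add_mul]
      | tmul b' a' =>
        rw [Algebra.TensorProduct.tmul_mul_tmul]
        show star (b * b') ⊗ₜ[R] t (a * a') = (star b' ⊗ₜ[R] t a') * (star b ⊗ₜ[R] t a)
        rw [Algebra.TensorProduct.tmul_mul_tmul, star_mul, t.map_mul]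
  have tBinv : ∀ x, tB (tB x) = x := fun x => by
    induction x using TensorProduct.induction_on with
    | zero => simp
    | add a a' h h' => rw [map_add, map_add, h, h']
    | tmul b a =>
      show star (star b) ⊗ₜ[R] t (t a) = _
      rw [star_star, t.invol]
  have tB1 : tB 1 = 1 := by
    show star (1 : R ⊗[S] T) ⊗ₜ[R] t 1 = _
    rw [star_one, t.map_one]; rfl
  have tBscalar : ∀ (b : R ⊗[S] T) x, tB (b • x) = star b • tB x := fun b x => by
    induction x using TensorProduct.induction_on with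
    | zero => simp
    | add a a' h h' => rw [smul_add, map_add, h, h', map_add, smul_add]
    | tmul c a =>
      rw [TensorProduct.smul_tmul']
      show star (b • c) ⊗ₜ[R] t a = _
      rw [smul_eq_mul, star_mul']; rfl
  -- composite of two anti-automorphisms
  let θ₀ : Matrix (Fin n) (Fin n) (R ⊗[S] T) → Matrix (Fin n) (Fin n) (R ⊗[S] T) :=
    fun X => Φ (tB (Φ.symm Xᴴ))
  have θlin : ∀ (c : R ⊗[S] T) X, θ₀ (c • X) = c • θ₀ X := fun c X => by
    show Φ (tB (Φ.symm (c • X)ᴴ)) = c • Φ (tB (Φ.symm Xᴴ))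
    rw [Matrix.conjTranspose_smul, map_smul, tBscalar, star_star, map_smul]
  let θh : Matrix (Fin n) (Fin n) (R ⊗[S] T) →ₗ[R ⊗[S] T] Matrix (Fin n) (Fin n) (R ⊗[S] T) :=
    { toFun := θ₀
      map_add' := fun X Y => by simp [θ₀]
      map_smul' := θlin }
  let θa := AlgHom.ofLinearMap θh (show θ₀ 1 = 1 by simp [θ₀, tB1])
    (fun X Y => show θ₀ (X * Y) = θ₀ X * θ₀ Y by simp [θ₀, conjTranspose_mul, tBmul])
  have hθ : Function.Bijective θa :=
    Φ.bijective.comp ((Function.Involutive.bijective tBinv).comp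
      (Φ.symm.bijective.comp (Function.Involutive.bijective Matrix.conjTranspose_conjTranspose)))
  letI : Algebra T (R ⊗[S] T) := Algebra.TensorProduct.rightAlgebra
  haveI : Algebra.IsIntegral T (R ⊗[S] T) := ⟨fun b => by
    obtain ⟨a, ha⟩ := exists_of_fixed T lam hfix (b + star b)
      (show star (b + star b) = _ by rw [star_add, star_star, add_comm])
    obtain ⟨c, hc⟩ := exists_of_fixed T lam hfix (b * star b)
      (show star (b * star b) = _ by rw [star_mul', star_star, mul_comm])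
    refine ⟨Polynomial.X ^ 2 - Polynomial.C a * Polynomial.X + Polynomial.C c, by monicity!, ?_⟩
    simp [Polynomial.eval₂_add, Polynomial.eval₂_sub, Algebra.TensorProduct.rightAlgebra,
      RingHom.algebraMap_toAlgebra', ← ha, ← hc]
    ring⟩
  obtain ⟨f, hf, P, P', hPP', hP'P, hP⟩ :=
    CSA.exists_conj_away_of_isIntegral T (R ⊗[S] T) (Matrix (Fin n) (Fin n) (R ⊗[S] T))
      (AlgEquiv.ofBijective θa hθ) (IsLocalRing.maximalIdeal T)
  have hfu : IsUnit (algebraMap T (Matrix (Fin n) (Fin n) (R ⊗[S] T)) f) :=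
    (not_not.1 (show ¬ ¬ IsUnit f from hf)).map _
  have hWu : IsUnit P :=
    ((Commute.isUnit_mul_iff (show Commute P P' from hPP'.trans hP'P.symm)).1 (hPP'.symm ▸ hfu)).1
  have hW : ∀ a, ψ₀ (t a) * P = P * (ψ₀ a)ᴴ := fun a => by
    rw [← hP]
    congr 1
    show _ = Φ (tB (Φ.symm (ψ₀ a)ᴴᴴ))
    rw [conjTranspose_conjTranspose,
      show ψ₀ a = Φ ((1 : R ⊗[S] T) ⊗ₜ[R] a) by simp [Φ, Φ₀],
      AlgEquiv.symm_apply_apply]
    show _ = Φ (star (1 : R ⊗[S] T) ⊗ₜ[R] t a)
    simp [Φ, Φ₀]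
  obtain ⟨W, rfl⟩ := hWu
  -- `Wᴴ` is a scalar multiple of `W`
  obtain ⟨e, he⟩ : ∃ e : R ⊗[S] T, (W : Matrix (Fin n) (Fin n) (R ⊗[S] T))ᴴ = e • ↑W := by
    have hspan : ∀ X : Matrix (Fin n) (Fin n) (R ⊗[S] T),
        X * ((↑W : Matrix (Fin n) (Fin n) (R ⊗[S] T))ᴴ * (↑W⁻¹ : Matrix (Fin n) (Fin n) (R ⊗[S] T))) =
          ((↑W : Matrix (Fin n) (Fin n) (R ⊗[S] T))ᴴ * (↑W⁻¹ : Matrix (Fin n) (Fin n) (R ⊗[S] T))) * X := fun X => by
      obtain ⟨y, rfl⟩ := Φ.surjective X
      induction y using TensorProduct.induction_on with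
      | zero => simp
      | add a a' h h' => rw [map_add, add_mul, h, h', mul_add]
      | tmul b a =>
        have h1 := congrArg conjTranspose (hW a)
        rw [conjTranspose_mul, conjTranspose_mul, conjTranspose_conjTranspose] at h1
        have h2 : (↑W : Matrix (Fin n) (Fin n) (R ⊗[S] T)) * (ψ₀ (t a))ᴴ * (↑W⁻¹ : Matrix (Fin n) (Fin n) (R ⊗[S] T)) = ψ₀ a := by
          rw [← hW, t.invol, mul_assoc, Units.mul_inv, mul_one]
        have h3 : ψ₀ a * ((↑W : Matrix (Fin n) (Fin n) (R ⊗[S] T))ᴴ * (↑W⁻¹ : Matrix (Fin n) (Fin n) (R ⊗[S] T))) =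
            ((↑W : Matrix (Fin n) (Fin n) (R ⊗[S] T))ᴴ * (↑W⁻¹ : Matrix (Fin n) (Fin n) (R ⊗[S] T))) * ψ₀ a := by
          rw [← mul_assoc, ← h1]
          conv_rhs => rw [← h2]
          simp [mul_assoc]
        have h4 : Φ (b ⊗ₜ[R] a) = b • ψ₀ a := by simp [Φ, Φ₀, Algebra.smul_def]
        rw [h4, smul_mul_assoc, h3, mul_smul_comm]
    obtain ⟨e, he⟩ := Matrix.mem_range_scalar_of_commute_single
      (M := (↑W : Matrix (Fin n) (Fin n) (R ⊗[S] T))ᴴ * (↑W⁻¹ : Matrix (Fin n) (Fin n) (R ⊗[S] T))) fun i j _ => hspan _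
    refine ⟨e, ?_⟩
    calc (↑W : Matrix (Fin n) (Fin n) (R ⊗[S] T))ᴴ
        = (↑W : Matrix (Fin n) (Fin n) (R ⊗[S] T))ᴴ * (↑W⁻¹ : Matrix (Fin n) (Fin n) (R ⊗[S] T)) * ↑W := by simp [mul_assoc]
      _ = _ := by rw [← he, Matrix.scalar_apply, ← Matrix.smul_one_eq_diagonal, smul_mul_assoc, one_mul]
  have hee : star e * e = 1 := by
    have h := congrArg conjTranspose he
    rw [conjTranspose_conjTranspose, conjTranspose_smul, he, smul_smul] at h
    have h' := congrArg (fun M => (M * (↑W⁻¹ : Matrix (Fin n) (Fin n) (R ⊗[S] T))) ⟨0, hn⟩ ⟨0, hn⟩) h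
    simpa [smul_mul_assoc] using h'.symm
  have hcase : IsUnit (2 : R ⊗[S] T) ∨ (∃ d : R ⊗[S] T, star d = -d ∧ IsUnit d ∧
      ∃ b : R ⊗[S] T, IsUnit (b + star b)) ∨ Odd n := by
    rcases hcond with h | h | h
    · left
      simpa [map_ofNat] using h.map (algebraMap S (R ⊗[S] T))
    · exact Or.inr (Or.inl (exists_anti_of_isQuadEtale T lam hlam hfix hsq h))
    · exact Or.inr (Or.inr h)
  have finish : ∀ (c : R ⊗[S] T), IsUnit c → ∀ Z : Matrix (Fin n) (Fin n) (R ⊗[S] T),
      Cong (c • (↑W : Matrix (Fin n) (Fin n) (R ⊗[S] T))) Z → ∃ ψ, IsModel t (muT T lam) Z ψ := by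
    rintro c hc Z ⟨_, ⟨G, rfl⟩, rfl⟩
    refine ⟨AlgHom.ofLinearMap
      ((LinearMap.mulRight R (↑G⁻¹ : Matrix (Fin n) (Fin n) (R ⊗[S] T))).comp
        ((LinearMap.mulLeft R (↑G : Matrix (Fin n) (Fin n) (R ⊗[S] T))).comp ψ₀.toLinearMap))
      (by simp) (fun a b => by simp [mul_assoc]), fun a => ?_⟩
    show (↑G : Matrix (Fin n) (Fin n) (R ⊗[S] T)) * ψ₀ (t a) * (↑G⁻¹ : Matrix (Fin n) (Fin n) (R ⊗[S] T)) * _ =
      _ * ((↑G : Matrix (Fin n) (Fin n) (R ⊗[S] T)) * ψ₀ a * (↑G⁻¹ : Matrix (Fin n) (Fin n) (R ⊗[S] T)))ᴴ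
    rw [conjTranspose_mul, conjTranspose_mul,
      show (↑G⁻¹ : Matrix (Fin n) (Fin n) (R ⊗[S] T))ᴴ = ↑(star G)⁻¹ from by
        rw [← Matrix.star_eq_conjTranspose, ← Units.coe_star, star_inv],
      show (↑G : Matrix (Fin n) (Fin n) (R ⊗[S] T))ᴴ = ↑(star G) from rfl]
    simp only [mul_assoc, Units.inv_mul_cancel_left, Units.mul_inv_cancel_left]
    simp only [smul_mul_assoc, mul_smul_comm]
    congr 2
    rw [← mul_assoc (ψ₀ (t a)), hW, mul_assoc]
  rcases hB.exists_scaling hn e hee _ W.isUnit he hcase with ⟨c, hc, hsym, htr⟩ | ⟨h2, hanti, c, hc, hskew⟩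
  · have hU : IsUnit (c • (↑W : Matrix (Fin n) (Fin n) (R ⊗[S] T))) := by
      rw [Algebra.smul_def]; exact (hc.map _).mul W.isUnit
    exact Or.inl (finish c hc _ (hB.hermitian_normal _ hU hsym htr))
  · have hU : IsUnit (c • (↑W : Matrix (Fin n) (Fin n) (R ⊗[S] T))) := by
      rw [Algebra.smul_def]; exact (hc.map _).mul W.isUnit
    obtain ⟨hev, hcong⟩ := hB.skew_normal h2 hanti n _ hU hskew
    exact Or.inr ⟨h2, hev, hanti, finish c hc _ hcong⟩

end

end Groth.Agent.AzInvLib
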