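import Groth.Agent.AzInvLib.Results
import Groth.Agent.CSA.EtaleSplit
import Groth.Agent.CSA.InvolutionForms
import Mathlib.RingTheory.Kaehler.Basic

/-! # The loci of the two types; the residual rank criterion -/

set_option autoImplicit false
set_option linter.style.haveILetI false

open TensorProduct Matrix CategoryTheory

universe u v w w' x y z

namespace Groth.Agent.AzInvLib

open Groth.Agent.Hensel Groth.Agent.CSA

variable {S : Type u} [CommRing S]

/-- if `2` is invertible, units have square roots étale locally -/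
theorem hsq_of_two (h2 : IsUnit (2 : S)) (S₁ : Type u) [CommRing S₁] [Algebra S S₁]
    [Algebra.Etale S S₁] (x : S₁ˣ) :
    ∃ (S₂ : Type u) (_ : CommRing S₂) (_ : Algebra S₁ S₂) (_ : Algebra.Etale S₁ S₂)
      (_ : Module.FaithfullyFlat S₁ S₂) (y : S₂), y * y = algebraMap S₁ S₂ ↑x := by
  open Polynomial in
  obtain ⟨t, ht⟩ := (h2.map (algebraMap S S₁) : IsUnit (algebraMap S S₁ 2))
  rw [map_ofNat] at ht
  let P : S₁[X] := X ^ 2 - C (↑x : S₁)
  have hP : P.Monic := monic_X_pow_sub_C _ two_ne_zero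
  have hd : derivative P = C (2 : S₁) * X := by simp [P, one_add_one_eq_two, C_ofNat]
  have hco : IsCoprime P (derivative P) := by
    refine ⟨C (-(↑x⁻¹ : S₁)), C ((↑x⁻¹ : S₁) * ↑t⁻¹) * X, ?_⟩
    have h1 : C (↑t⁻¹ : S₁) * C (2 : S₁) = 1 := by rw [← C_mul, ← ht, Units.inv_mul, C_1]
    have hx : C (↑x⁻¹ : S₁) * C (↑x : S₁) = 1 := by rw [← C_mul, Units.inv_mul, C_1]
    rw [hd, show P = X ^ 2 - C (↑x : S₁) from rfl, C_neg, C_mul]
    linear_combination hx + C (↑x⁻¹ : S₁) * X ^ 2 * h1
  haveI := etale_adjoinRoot hP hco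
  refine ⟨AdjoinRoot P, inferInstance, inferInstance, inferInstance, ?_, AdjoinRoot.root P, ?_⟩
  · rcases subsingleton_or_nontrivial S₁ with hs | hs
    · exact Module.FaithfullyFlat.of_comap_surjective fun p => (p.isPrime.ne_top (Subsingleton.elim _ _)).elim
    · haveI : Nonempty (Fin P.natDegree) := ⟨⟨0, by rw [natDegree_X_pow_sub_C]; norm_num⟩⟩
      haveI : Module.Free S₁ (AdjoinRoot P) := Module.Free.of_basis (AdjoinRoot.powerBasis' hP).basis
      haveI : Nonempty (Fin (AdjoinRoot.powerBasis' hP).dim) := by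
        rw [AdjoinRoot.powerBasis'_dim]; infer_instance
      haveI : Nontrivial (AdjoinRoot P) := (AdjoinRoot.powerBasis' hP).basis.repr.toEquiv.nontrivial
      infer_instance
  · have h := AdjoinRoot.eval₂_root P
    simp only [P, eval₂_sub, eval₂_X_pow, eval₂_C, sub_eq_zero] at h
    rw [← pow_two, h]
    rfl

variable {R : Type v} [CommRing R] [Algebra S R] {lam : R ≃ₐ[S] R}
  {A : Type w} [Ring A] [Algebra R A] {A' : Type w'} [Ring A'] [Algebra R A']
  {n : ℕ} {t : AzInv.LamInv R A lam} {t' : AzInv.LamInv R A' lam}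

theorem HasPair.map {E : Type x} [CommRing E] [Algebra S E] {E' : Type y} [CommRing E'] [Algebra S E']
    (g : E →ₐ[S] E') (h : HasPair n t t' E) : HasPair n t t' E' := by
  obtain ⟨W, ψ, ψ', hψ, hψ'⟩ := h
  have hg : ∀ b, muT E' lam (Algebra.TensorProduct.map (AlgHom.id R R) g b) =
      Algebra.TensorProduct.map (AlgHom.id R R) g (muT E lam b) := fun b => by
    induction b using TensorProduct.induction_on with
    | zero => simp
    | add b b' h h' => simp only [map_add, h, h']
    | tmul r e => simp [muT]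
  exact hasPair_of_models' (W.isUnit.map _) (hψ.map _ hg) (hψ'.map _ hg)
where
  hasPair_of_models' {E' : Type y} [CommRing E'] [Algebra S E']
      {W : Matrix (Fin n) (Fin n) (R ⊗[S] E')} (hW : IsUnit W)
      {ψ : A →ₐ[R] Matrix (Fin n) (Fin n) (R ⊗[S] E')} (hψ : IsModel t (muT E' lam) W ψ)
      {ψ' : A' →ₐ[R] Matrix (Fin n) (Fin n) (R ⊗[S] E')} (hψ' : IsModel t' (muT E' lam) W ψ') :
      HasPair n t t' E' := by
    obtain ⟨W, rfl⟩ := hW
    exact ⟨W, ψ, ψ', hψ, hψ'⟩

theorem isOpen_hasPair [Module.Finite R A] [Module.Projective R A] [Module.Finite R A']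
    [Module.Projective R A'] :
    IsOpen {p : PrimeSpectrum S | HasPair n t t' (Hens S (SeparableClosure p.asIdeal.ResidueField))} := by
  rw [isOpen_iff_forall_mem_open]
  intro p hp
  obtain ⟨X, hX⟩ := exists_stage_pair hp
  refine ⟨Set.range (PrimeSpectrum.comap (algebraMap S X.carrier)), ?_,
    (PrimeSpectrum.isOpenMap_comap_of_hasGoingDown_of_finitePresentation
      (R := S) (S := X.carrier)).isOpen_range, ?_⟩
  · rintro q ⟨P, hP⟩
    obtain ⟨σ⟩ := exists_point_of_prime (C := S) (K := SeparableClosure q.asIdeal.ResidueField)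
      X.carrier P (by
        rw [hP]
        refine PrimeSpectrum.ext (Ideal.ext fun c => ?_)
        show c ∈ q.asIdeal ↔ algebraMap S (SeparableClosure q.asIdeal.ResidueField) c = 0
        rw [IsScalarTower.algebraMap_apply S q.asIdeal.ResidueField
          (SeparableClosure q.asIdeal.ResidueField), map_eq_zero, Ideal.algebraMap_residueField_eq_zero])
    obtain ⟨φ, -⟩ := Hens.exists_algHom X.carrier σ
    exact hX.map φ
  · refine ⟨⟨RingHom.ker X.point.toRingHom, RingHom.ker_isPrime _⟩, PrimeSpectrum.ext ?_⟩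
    ext c
    show X.point (algebraMap S X.carrier c) = 0 ↔ c ∈ p.asIdeal
    rw [AlgHom.commutes, IsScalarTower.algebraMap_apply S p.asIdeal.ResidueField
      (SeparableClosure p.asIdeal.ResidueField), map_eq_zero, Ideal.algebraMap_residueField_eq_zero]

theorem skewStd_unit (n : ℕ) (hev : Even n) :
    ∃ u : (Matrix (Fin n) (Fin n) R)ˣ, (u : Matrix (Fin n) (Fin n) R) = skewStd R n :=
  ⟨(isUnit_skewStd R n hev).unit, rfl⟩

theorem lamTr_skewStd (n : ℕ) : AzInv.lamTr lam (skewStd R n) = (-1 : R) • skewStd R n := by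
  rw [neg_one_smul, ← skewStd_transpose, AzInv.lamTr]
  exact congrArg Matrix.transpose (skewStd_map' (lam : R ≃ₐ[S] R).toRingEquiv.toRingHom n)

/-- the model of a twisted transpose -/
theorem conj_model {E : Type x} [CommRing E] [Algebra S E] (n : ℕ) (hlam : ∀ r, lam (lam r) = r)
    (w : (Matrix (Fin n) (Fin n) R)ˣ) (e : R)
    (hw : AzInv.LamInv.transpose lam (Fin n) hlam (↑w : Matrix (Fin n) (Fin n) R) = e • (↑w : Matrix (Fin n) (Fin n) R))
    (he : lam e * e = 1) :
    IsModel ((AzInv.LamInv.transpose lam (Fin n) hlam).conj w e hw he) (muT E lam)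
      ((Algebra.ofId R (R ⊗[S] E)).mapMatrix (↑w : Matrix (Fin n) (Fin n) R))
      (Algebra.ofId R (R ⊗[S] E)).mapMatrix := fun M => by
  rw [AzInv.LamInv.conj_apply, map_mul, map_mul, mul_assoc (_ * _), ← map_mul _ (↑w⁻¹ : Matrix (Fin n) (Fin n) R),
    Units.inv_mul, map_one, mul_one]
  congr 1

/-- the residual rank of symmetric elements is computed by any model -/
theorem finrank_span_fixed {κ : Type x} [Field κ] [Algebra R κ]
    (hκ : ∀ r, algebraMap R κ (lam r) = algebraMap R κ r) {L : Type x} [Field L] [Algebra κ L]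
    [Algebra R L] [IsScalarTower R κ L] (h2 : (2 : κ) ≠ 0) [IsAzumaya R A] (hn : 0 < n)
    (hrk : ∀ q : PrimeSpectrum R, Module.rankAtStalk (R := R) A q = n ^ 2)
    {W : Matrix (Fin n) (Fin n) L} (hW : IsUnit W) (ε : L) (hε : ε * ε = 1) (hWt : Wᵀ = ε • W)
    {ψ : A →ₐ[R] Matrix (Fin n) (Fin n) L} (hψ : IsModel t id W ψ)
    (P : Submodule L (Matrix (Fin n) (Fin n) L)) (hP : ∀ Y, Y ∈ P ↔ Yᵀ = ε • Y) :
    Module.finrank κ (Submodule.span κ (Set.range fun a : {a : A // t a = a} => (1 : κ) ⊗ₜ[R] (a : A))) =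
      Module.finrank L P := by
  classical
  haveI := CSA.isAzumaya_baseChange R κ A
  let s₀ : κ ⊗[R] A →+ κ ⊗[R] A := TensorProduct.liftAddHom
    (AddMonoidHom.mk' (fun c => AddMonoidHom.mk' (fun a => c ⊗ₜ[R] t a)
      fun a a' => by rw [t.map_add, TensorProduct.tmul_add])
      fun c c' => by ext a; show (c + c') ⊗ₜ[R] t a = c ⊗ₜ[R] t a + c' ⊗ₜ[R] t a; rw [TensorProduct.add_tmul])
    fun r c a => by
      show (r • c) ⊗ₜ[R] t a = c ⊗ₜ[R] t (r • a)
      rw [t.map_smul, TensorProduct.tmul_smul, TensorProduct.smul_tmul', Algebra.smul_def,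
        Algebra.smul_def, hκ]
  let s : κ ⊗[R] A →ₗ[κ] κ ⊗[R] A :=
    { toFun := s₀
      map_add' := map_add s₀
      map_smul' := fun c z => by
        induction z using TensorProduct.induction_on with
        | zero => simp
        | add a b ha hb => simp only [smul_add, map_add, ha, hb, RingHom.id_apply]
        | tmul d a => rw [TensorProduct.smul_tmul']; rfl }
  obtain ⟨h2u, h2v⟩ : ∃ h : κ, h * 2 = 1 := ⟨(2 : κ)⁻¹, inv_mul_cancel₀ h2⟩
  have hspan : Submodule.span κ (Set.range fun a : {a : A // t a = a} => (1 : κ) ⊗ₜ[R] (a : A)) =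
      LinearMap.ker (s - (1 : κ) • LinearMap.id) := by
    refine le_antisymm (Submodule.span_le.2 ?_) fun z hz => ?_
    · rintro _ ⟨⟨a, ha⟩, rfl⟩
      show (1 : κ) ⊗ₜ[R] t a - (1 : κ) • ((1 : κ) ⊗ₜ[R] a) = 0
      rw [ha, one_smul, sub_self]
    · have hz' : s z = z := by simpa [sub_eq_zero] using hz
      have key : ∀ y : κ ⊗[R] A, y + s y ∈
          Submodule.span κ (Set.range fun a : {a : A // t a = a} => (1 : κ) ⊗ₜ[R] (a : A)) := fun y => by
        induction y using TensorProduct.induction_on with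
        | zero => simp
        | add a b ha hb => rw [map_add, add_add_add_comm]; exact add_mem ha hb
        | tmul c a =>
          show c ⊗ₜ[R] a + c ⊗ₜ[R] t a ∈ _
          rw [← TensorProduct.tmul_add, show c ⊗ₜ[R] (a + t a) = c • ((1 : κ) ⊗ₜ[R] (a + t a)) by
            rw [TensorProduct.smul_tmul', smul_eq_mul, mul_one]]
          exact Submodule.smul_mem _ _ (Submodule.subset_span
            ⟨⟨a + t a, by rw [t.map_add, t.invol, add_comm]⟩, rfl⟩)
      have h := Submodule.smul_mem _ h2u (key z)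
      rwa [hz', ← two_smul κ z, smul_smul, h2v, one_smul] at h
  rw [hspan]
  haveI : Nonempty (Fin n) := ⟨⟨0, hn⟩⟩
  let φ : κ ⊗[R] A →ₐ[κ] Matrix (Fin n) (Fin n) L :=
    Algebra.TensorProduct.lift (Algebra.ofId κ _) ψ fun b a => Algebra.commutes b (ψ a)
  let e₀ : L ⊗[κ] (κ ⊗[R] A) →ₐ[L] Matrix (Fin n) (Fin n) L :=
    Algebra.TensorProduct.lift (Algebra.ofId L _) φ fun b a => Algebra.commutes b (φ a)
  have hsurj : Function.Surjective e₀.toLinearMap := by
    rw [← LinearMap.range_eq_top, eq_top_iff, ← span_of_bijective (bijective_lift hn hrk ψ).2,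
      Submodule.span_le]
    rintro _ ⟨a, rfl⟩
    exact ⟨1 ⊗ₜ (1 ⊗ₜ a), by simp [e₀, φ]⟩
  have hfin : Module.finrank κ (κ ⊗[R] A) = n ^ 2 := by
    have h := congrFun (Module.rankAtStalk_eq_finrank_of_free (R := κ) (M := κ ⊗[R] A)) ⟨⊥, Ideal.isPrime_bot⟩
    rw [Module.rankAtStalk_baseChange, hrk] at h
    exact h.symm
  haveI : Module.Finite κ (κ ⊗[R] A) := inferInstance
  have hbij : Function.Bijective e₀ := by
    refine ⟨(LinearMap.injective_iff_surjective_of_finrank_eq_finrank (f := e₀.toLinearMap) ?_).2 hsurj, hsurj⟩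
    rw [Module.finrank_baseChange, hfin, Module.finrank_matrix, Module.finrank_self, Fintype.card_fin]
    ring
  obtain ⟨W, rfl⟩ := hW
  have hinv : ((↑W⁻¹ : Matrix (Fin n) (Fin n) L))⁻¹ = (↑W : Matrix (Fin n) (Fin n) L) :=
    Matrix.inv_eq_right_inv (Units.inv_mul W)
  refine CSA.finrank_fixed_of_forms κ L s n (AlgEquiv.ofBijective e₀ hbij)
    (↑W⁻¹ : Matrix (Fin n) (Fin n) L) W⁻¹.isUnit ε hε ?_ (fun x => ?_) 1 P (fun Y => by rw [hP, map_one, mul_one])
  · have h : (↑W⁻¹ : Matrix (Fin n) (Fin n) L)ᵀ * (ε • (↑W : Matrix (Fin n) (Fin n) L)) = 1 := by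
      rw [← hWt, ← Matrix.transpose_mul, Units.mul_inv, Matrix.transpose_one]
    rw [mul_smul_comm] at h
    calc (↑W⁻¹ : Matrix (Fin n) (Fin n) L)ᵀ
        = ε • ε • ((↑W⁻¹ : Matrix (Fin n) (Fin n) L)ᵀ * ↑W * (↑W⁻¹ : Matrix (Fin n) (Fin n) L)) := by
          rw [smul_smul, hε, one_smul, mul_assoc, Units.mul_inv, mul_one]
      _ = _ := by rw [← smul_mul_assoc, h, one_mul]
  · rw [hinv]
    show e₀ (s.baseChange L x) = _ * (e₀ x)ᵀ * _
    have hlin : ∀ z : κ ⊗[R] A, φ (s z) = (↑W : Matrix (Fin n) (Fin n) L) * (φ z)ᵀ * (↑W⁻¹ : Matrix (Fin n) (Fin n) L) := fun z => by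
      induction z using TensorProduct.induction_on with
      | zero => simp
      | add a b ha hb => simp only [map_add, ha, hb, Matrix.transpose_add, mul_add, add_mul]
      | tmul c a =>
        show φ (c ⊗ₜ[R] t a) = _
        have h := hψ a
        rw [show AzInv.lamTr id (ψ a) = (ψ a)ᵀ by ext i j; simp] at h
        have h' : ψ (t a) = (↑W : Matrix (Fin n) (Fin n) L) * (ψ a)ᵀ * (↑W⁻¹ : Matrix (Fin n) (Fin n) L) := by
          rw [← h, mul_assoc, Units.mul_inv, mul_one]
        simp only [φ, Algebra.TensorProduct.lift_tmul, Algebra.ofId_apply, ← Algebra.smul_def, h',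
          Matrix.transpose_smul, mul_smul_comm, smul_mul_assoc]
    induction x using TensorProduct.induction_on with
    | zero => simp
    | add a b ha hb => simp only [map_add, ha, hb, Matrix.transpose_add, mul_add, add_mul]
    | tmul d z =>
      simp only [LinearMap.baseChange_tmul, e₀, Algebra.TensorProduct.lift_tmul, Algebra.ofId_apply,
        ← Algebra.smul_def, hlin, Matrix.transpose_smul, mul_smul_comm, smul_mul_assoc]

variable [IsAzumaya R A]

set_option synthInstance.maxHeartbeats 200000 in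
/-- with `2` invertible and `n > 0`: the residual criterion for the symmetric type -/
theorem sym_iff_finrank (hlam : ∀ r, lam (lam r) = r) (hfix : RInv.IsFixedRing S R lam.toRingEquiv)
    (h2 : IsUnit (2 : S)) (hn : 0 < n)
    (hrk : ∀ q : PrimeSpectrum R, Module.rankAtStalk (R := R) A q = n ^ 2)
    (q : PrimeSpectrum R) (hq : ∀ r : R, lam r - r ∈ q.asIdeal) (p : PrimeSpectrum S)
    (hp : PrimeSpectrum.comap (algebraMap S R) q = p) :
    (Module.finrank q.asIdeal.ResidueField
        (Submodule.span q.asIdeal.ResidueField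
          (Set.range fun a : {a : A // t a = a} => (1 : q.asIdeal.ResidueField) ⊗ₜ[R] (a : A))) =
        Nat.choose (n + 1) 2 ↔
      ∃ ψ, IsModel t (muT (Hens S (SeparableClosure p.asIdeal.ResidueField)) lam)
        (1 : Matrix (Fin n) (Fin n) (R ⊗[S] Hens S (SeparableClosure p.asIdeal.ResidueField))) ψ) ∧
    ((∃ ψ, IsModel t (muT (Hens S (SeparableClosure p.asIdeal.ResidueField)) lam)
        (skewStd (R ⊗[S] Hens S (SeparableClosure p.asIdeal.ResidueField)) n) ψ) → Even n →
      ¬ ∃ ψ, IsModel t (muT (Hens S (SeparableClosure p.asIdeal.ResidueField)) lam)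
        (1 : Matrix (Fin n) (Fin n) (R ⊗[S] Hens S (SeparableClosure p.asIdeal.ResidueField))) ψ) := by
  classical
  subst hp
  set p := PrimeSpectrum.comap (algebraMap S R) q with hp
  let κ := q.asIdeal.ResidueField
  let L := AlgebraicClosure κ
  haveI : q.asIdeal.LiesOver p.asIdeal := ⟨rfl⟩
  letI := Localization.AtPrime.algebraOfLiesOver p.asIdeal q.asIdeal
  let Kp := SeparableClosure p.asIdeal.ResidueField
  let T := Hens S Kp
  let j : Kp →ₐ[p.asIdeal.ResidueField] L := IsAlgClosed.lift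
  let g : R ⊗[S] T →ₐ[R] L := Algebra.TensorProduct.lift (Algebra.ofId R L)
    ((j.restrictScalars S).comp (Hens.π S Kp)) fun _ _ => Commute.all _ _
  have hκ : ∀ r, algebraMap R κ (lam r) = algebraMap R κ r := fun r => by
    rw [← sub_eq_zero, ← map_sub, Ideal.algebraMap_residueField_eq_zero]
    exact hq r
  have hg : ∀ b, id (g b) = g (muT T lam b) := fun b => by
    induction b using TensorProduct.induction_on with
    | zero => simp
    | add b b' h h' => simp only [id, map_add] at *; rw [h, h']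
    | tmul r e =>
      simp [g, muT, IsScalarTower.algebraMap_apply R κ L, hκ]
  have h2κ : (2 : κ) ≠ 0 := by
    have h := (h2.map (algebraMap S κ)).ne_zero
    simpa [map_ofNat] using h
  have h2L : (2 : L) ≠ 0 := fun h => h2κ ((algebraMap κ L).injective (by rw [map_ofNat, h, map_zero]))
  -- the two cases
  have hsym : ∀ ψ, IsModel t (muT T lam) (1 : Matrix (Fin n) (Fin n) (R ⊗[S] T)) ψ →
      IsModel t id (1 : Matrix (Fin n) (Fin n) L) (g.mapMatrix.comp ψ) := fun ψ h => by
    have h' := h.map g (ν' := id) hg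
    rwa [map_one] at h'
  have hskew : ∀ ψ, IsModel t (muT T lam) (skewStd (R ⊗[S] T) n) ψ →
      IsModel t id (skewStd L n) (g.mapMatrix.comp ψ) := fun ψ h => by
    have h' := h.map g (ν' := id) hg
    rwa [AlgHom.mapMatrix_apply, show (skewStd (R ⊗[S] T) n).map g = skewStd L n from
      skewStd_map' g.toRingHom n] at h'
  have excl : (∃ ψ, IsModel t (muT T lam) (skewStd (R ⊗[S] T) n) ψ) → Even n →
      ¬ ∃ ψ, IsModel t (muT T lam) (1 : Matrix (Fin n) (Fin n) (R ⊗[S] T)) ψ := by
    rintro ⟨ψ', h'⟩ hev ⟨ψ, h⟩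
    haveI : Nonempty (Fin n) := ⟨⟨0, hn⟩⟩
    exact no_sym_skew_models h2L isUnit_one Matrix.transpose_one (hsym ψ h)
      (bijective_lift hn hrk _) (isUnit_skewStd L n hev) (skewStd_transpose L n) (hskew ψ' h')
      (span_of_bijective (bijective_lift hn hrk _).2)
  refine ⟨?_, excl⟩
  rcases normal_form_hens lam hlam hfix (hsq_of_two h2) n hn hrk (Or.inl h2) t Kp with
    ⟨ψ, hψ⟩ | ⟨-, hev, -, ψ, hψ⟩
  · refine iff_of_true ?_ ⟨ψ, hψ⟩
    rw [finrank_span_fixed hκ h2κ hn hrk isUnit_one (1 : L) (one_mul 1) (by simp) (hsym ψ hψ)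
      (CSA.symMat L n) (fun Y => by rw [one_smul]; exact Iff.rfl), CSA.finrank_symMat]
  · refine iff_of_false ?_ (excl ⟨ψ, hψ⟩ hev)
    rw [finrank_span_fixed hκ h2κ hn hrk (isUnit_skewStd L n hev) (-1 : L) (by ring)
      (by rw [skewStd_transpose, neg_one_smul]) (hskew ψ hψ) (CSA.skewMat L n)
      (fun Y => by rw [neg_one_smul]; exact Iff.rfl), CSA.finrank_skewMat L h2L,
      Nat.choose_succ_succ' n 1, Nat.choose_one_right, show 1 + 1 = 2 from rfl]
    omega

omit [IsAzumaya R A] in
theorem not_isUnit_hens (p : Ideal S) [p.IsPrime] {c : S} (hc : c ∈ p)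
    (z : Hens S (SeparableClosure p.ResidueField)) :
    ¬ IsUnit (algebraMap S (Hens S (SeparableClosure p.ResidueField)) c * z) := fun hu => by
  have h := (isUnit_of_mul_isUnit_left hu).map (Hens.π S (SeparableClosure p.ResidueField))
  rw [AlgHom.commutes, IsScalarTower.algebraMap_apply S p.ResidueField (SeparableClosure p.ResidueField),
    Ideal.algebraMap_residueField_eq_zero.2 hc, map_zero] at h
  exact not_isUnit_zero h

omit [IsAzumaya R A] in
theorem not_isUnit_right {T : Type x} [CommRing T] [Algebra S T] [Module.Flat S T]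
    (hlam : ∀ r, lam (lam r) = r) (hfix : RInv.IsFixedRing S R lam.toRingEquiv) {z : T}
    (hz : ¬ IsUnit z) : ¬ IsUnit ((1 : R) ⊗ₜ[S] z) := by
  rintro ⟨v, hv⟩
  letI := starB T lam hlam
  have hvs : star v = v := Units.ext (by
    show muT T lam ↑v = ↑v
    rw [hv]; simp [muT])
  obtain ⟨y, hy⟩ := exists_of_fixed T lam hfix (↑v⁻¹ : R ⊗[S] T) (by
    show star (↑v⁻¹ : R ⊗[S] T) = _
    rw [← Units.coe_star, star_inv, hvs])
  refine hz (IsUnit.of_mul_eq_one y (includeRight_injective T hfix.1 ?_))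
  show (1 : R) ⊗ₜ[S] (z * y) = (1 : R) ⊗ₜ[S] (1 : T)
  have h := v.mul_inv
  rw [hy, hv, Algebra.TensorProduct.tmul_mul_tmul, one_mul] at h
  exact h

omit [IsAzumaya R A] in
/-- with `2` invertible and no quadratic etale point at `p`, anti-fixed elements are never units -/
theorem not_isUnit_of_anti (hlam : ∀ r, lam (lam r) = r) (hfix : RInv.IsFixedRing S R lam.toRingEquiv)
    (h2 : IsUnit (2 : S)) (p : PrimeSpectrum S)
    (hp : ¬ RInv.IsQuadEtale (Localization.AtPrime p.asIdeal) (Localization.AtPrime p.asIdeal ⊗[S] R))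
    (d : R ⊗[S] Hens S (SeparableClosure p.asIdeal.ResidueField))
    (hd : muT (Hens S (SeparableClosure p.asIdeal.ResidueField)) lam d = -d) : ¬ IsUnit d := by
  classical
  let T := Hens S (SeparableClosure p.asIdeal.ResidueField)
  let L := Localization.AtPrime p.asIdeal
  by_cases h : ∃ (a : R) (c : S), lam a = -a ∧ algebraMap S R c = a * a ∧ c ∉ p.asIdeal
  · exfalso
    apply hp
    obtain ⟨a, c, ha, hc, hcp⟩ := h
    let θ : (Fin 2 → L) →ₗ[L] L ⊗[S] R :=
      Fintype.linearCombination L ![(1 : L ⊗[S] R), (1 : L) ⊗ₜ[S] a]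
    have hθ : ∀ f : Fin 2 → L, θ f = f 0 ⊗ₜ[S] (1 : R) + f 1 ⊗ₜ[S] a := fun f => by
      simp [θ, Fintype.linearCombination_apply, Fin.sum_univ_two, Algebra.TensorProduct.one_def,
        TensorProduct.smul_tmul']
    obtain ⟨cu, hcu⟩ : IsUnit (algebraMap S L c) :=
      IsLocalization.map_units L (⟨c, hcp⟩ : p.asIdeal.primeCompl)
    obtain ⟨tu, htu⟩ := h2.map (algebraMap S L)
    have hsurj : Function.Surjective θ := by
      intro z
      induction z using TensorProduct.induction_on with
      | zero => exact ⟨0, map_zero θ⟩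
      | add x y hx hy =>
        obtain ⟨f, rfl⟩ := hx
        obtain ⟨g, rfl⟩ := hy
        exact ⟨f + g, map_add θ f g⟩
      | tmul l r =>
        obtain ⟨s₁, hs₁⟩ := (hfix.2 (r + lam r)).1 (show lam (r + lam r) = _ by rw [map_add, hlam, add_comm])
        obtain ⟨s₂, hs₂⟩ := (hfix.2 ((r - lam r) * a)).1 (show lam ((r - lam r) * a) = _ by
          rw [map_mul, map_sub, hlam, ha]; ring)
        refine ⟨![l * ↑tu⁻¹ * algebraMap S L s₁, l * ↑tu⁻¹ * ↑cu⁻¹ * algebraMap S L s₂], ?_⟩
        have key : (c * 2) • r = (c * s₁) • (1 : R) + s₂ • a := by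
          simp only [Algebra.smul_def, map_mul, map_ofNat, hs₁, hs₂, hc]; ring
        have h1 := congrArg (fun y : R => (l * ↑tu⁻¹ * ↑cu⁻¹) ⊗ₜ[S] y) key
        rw [TensorProduct.tmul_add, TensorProduct.tmul_smul, TensorProduct.tmul_smul,
          TensorProduct.tmul_smul, TensorProduct.smul_tmul', TensorProduct.smul_tmul',
          TensorProduct.smul_tmul', Algebra.smul_def, Algebra.smul_def, Algebra.smul_def] at h1
        rw [hθ]
        simp only [Matrix.cons_val_zero, Matrix.cons_val_one]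
        have e1 : algebraMap S L (c * 2) * (l * ↑tu⁻¹ * ↑cu⁻¹) = l := by
          rw [map_mul, ← hcu, ← htu]
          calc (cu : L) * ↑tu * (l * ↑tu⁻¹ * ↑cu⁻¹) = l * ((↑tu * ↑tu⁻¹) * (↑cu * ↑cu⁻¹)) := by ring
            _ = l := by rw [Units.mul_inv, Units.mul_inv, mul_one, mul_one]
        have e2 : algebraMap S L (c * s₁) * (l * ↑tu⁻¹ * ↑cu⁻¹) = l * ↑tu⁻¹ * algebraMap S L s₁ := by
          rw [map_mul, ← hcu]
          calc (cu : L) * algebraMap S L s₁ * (l * ↑tu⁻¹ * ↑cu⁻¹)
              = l * ↑tu⁻¹ * algebraMap S L s₁ * (↑cu * ↑cu⁻¹) := by ring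
            _ = _ := by rw [Units.mul_inv, mul_one]
        rw [e1, e2, mul_comm (algebraMap S L s₂)] at h1
        exact h1.symm
    have hinj : Function.Injective θ := by
      rw [injective_iff_map_eq_zero]
      intro f hf
      rw [hθ] at hf
      have hb := congrArg (Algebra.TensorProduct.map (AlgHom.id S L) lam.toAlgHom) hf
      simp only [map_add, Algebra.TensorProduct.map_tmul, AlgHom.id_apply, AlgEquiv.toAlgHom_eq_coe,
        AlgEquiv.coe_algHom, map_one, ha, map_zero, TensorProduct.tmul_neg] at hb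
      have hinc : Function.Injective fun l : L => l ⊗ₜ[S] (1 : R) := fun x y hxy =>
        includeRight_injective (S := S) (R := R) L hfix.1 (by
          simpa using congrArg (Algebra.TensorProduct.comm S L R) hxy)
      have h0 : f 0 = 0 := by
        have h1 : (algebraMap S L 2 * f 0) ⊗ₜ[S] (1 : R) = 0 := by
          rw [map_ofNat, two_mul, TensorProduct.add_tmul]
          linear_combination hf + hb
        have := hinc (h1.trans (TensorProduct.zero_tmul L (1 : R)).symm)
        rwa [← htu, Units.mul_right_eq_zero] at this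
      rw [h0, TensorProduct.zero_tmul, zero_add] at hf
      have h1 : (algebraMap S L c * f 1) ⊗ₜ[S] (1 : R) = 0 := by
        have := congrArg (· * ((1 : L) ⊗ₜ[S] a)) hf
        simp only [Algebra.TensorProduct.tmul_mul_tmul, mul_one, zero_mul] at this
        rw [← Algebra.smul_def, TensorProduct.smul_tmul, Algebra.smul_def, mul_one, hc]
        exact this
      have := hinc (h1.trans (TensorProduct.zero_tmul L (1 : R)).symm)
      rw [← hcu, Units.mul_right_eq_zero] at this
      ext i
      fin_cases i <;> assumption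
    let θe := LinearEquiv.ofBijective θ ⟨hinj, hsurj⟩
    refine ⟨Module.Finite.equiv θe, Module.Projective.of_equiv θe, ?_, fun P => ?_⟩
    · refine ⟨?_⟩
      let D := KaehlerDifferential.D L (L ⊗[S] R)
      let α : L ⊗[S] R := (1 : L) ⊗ₜ[S] a
      have hα2 : α * α = algebraMap L (L ⊗[S] R) (algebraMap S L c) := by
        show _ = (algebraMap S L c) ⊗ₜ[S] (1 : R)
        rw [Algebra.TensorProduct.tmul_mul_tmul, one_mul, ← hc, Algebra.TensorProduct.tmul_one_eq_one_tmul]
      have hu : IsUnit (2 * α) := by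
        refine IsUnit.mul ?_ (isUnit_of_mul_isUnit_left (y := α) ?_)
        · simpa [map_ofNat] using (h2.map (algebraMap S (L ⊗[S] R)))
        · rw [hα2]; exact (hcu ▸ cu.isUnit).map _
      have hDα : D α = 0 := by
        have h := congrArg D hα2
        rw [Derivation.map_algebraMap, Derivation.leibniz, ← add_smul, ← two_mul] at h
        obtain ⟨u, hu⟩ := hu
        rw [← hu] at h
        exact u.isUnit.smul_left_cancel.1 (h.trans (smul_zero _).symm)
      refine subsingleton_of_forall_eq 0 fun ω => ?_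
      have hω : ω ∈ Submodule.span (L ⊗[S] R) (Set.range D) := by
        rw [KaehlerDifferential.span_range_derivation]; exact Submodule.mem_top
      have hle : Submodule.span (L ⊗[S] R) (Set.range D) ≤ ⊥ := by
        rw [Submodule.span_le]
        rintro _ ⟨b, rfl⟩
        obtain ⟨f, rfl⟩ := hsurj b
        show D (θ f) ∈ (⊥ : Submodule _ _)
        simp only [θ, Fintype.linearCombination_apply, Fin.sum_univ_two, map_add, Derivation.map_smul,
          Matrix.cons_val_zero, Matrix.cons_val_one, Derivation.map_one_eq_zero, smul_zero, zero_add]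
        rw [show D ((1 : L) ⊗ₜ[S] a) = 0 from hDα, smul_zero]
        exact zero_mem _
      exact hle hω
    · rw [← Module.rankAtStalk_eq_of_equiv θe, Module.rankAtStalk_eq_finrank_of_free,
        Module.finrank_fin_fun]
      rfl
  · push Not at h
    letI := starB T lam hlam
    have hB := good T lam hlam hfix (exists_sqrt_hens (hsq_of_two h2) _)
    have hgen : ∀ b : R ⊗[S] T, b - star b ∈ Ideal.jacobson (⊥ : Ideal (R ⊗[S] T)) := by
      intro b
      induction b using TensorProduct.induction_on with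
      | zero => simp
      | add x y hx hy => rw [star_add, add_sub_add_comm]; exact add_mem hx hy
      | tmul r s =>
        have hstar : star (r ⊗ₜ[S] s) = lam r ⊗ₜ[S] s := by
          show muT T lam (r ⊗ₜ[S] s) = _
          simp [muT]
        rw [hstar, ← TensorProduct.sub_tmul]
        set a := r - lam r with haDef
        have ha : lam a = -a := by rw [haDef, map_sub, hlam, neg_sub]
        obtain ⟨c, hc⟩ := (hfix.2 (a * a)).1 (show lam (a * a) = _ by rw [map_mul, ha, neg_mul_neg])
        have hcp : c ∈ p.asIdeal := h a c ha hc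
        have hnu : ¬ IsUnit ((a ⊗ₜ[S] s) * (a ⊗ₜ[S] s)) := by
          intro hu
          rw [Algebra.TensorProduct.tmul_mul_tmul, ← hc, Algebra.algebraMap_eq_smul_one,
            TensorProduct.smul_tmul, Algebra.smul_def] at hu
          exact not_isUnit_right hlam hfix
            (not_isUnit_hens p.asIdeal hcp (s * s)) hu
        have hfx : star ((a ⊗ₜ[S] s) * (a ⊗ₜ[S] s)) = (a ⊗ₜ[S] s) * (a ⊗ₜ[S] s) := by
          show muT T lam _ = _
          simp [muT, Algebra.TensorProduct.tmul_mul_tmul, ha]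
        exact Ideal.mem_sInf.2 fun {M} hM =>
          (hM.2.isPrime.mem_or_mem (Ideal.mem_sInf.1 (hB.mem_of_not_isUnit hfx hnu) hM)).elim id id
    intro hdu
    have h1 := hgen d
    rw [show star d = -d from hd, sub_neg_eq_add, ← two_mul] at h1
    exact hB.not_isUnit h1 ((by simpa [map_ofNat] using h2.map (algebraMap S (R ⊗[S] T)) :
      IsUnit (2 : R ⊗[S] T)).mul hdu)

end Groth.Agent.AzInvLib
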