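import Groth.Agent.AzInvLib.Invariant
import Mathlib.FieldTheory.IsAlgClosed.AlgebraicClosure
import Mathlib.FieldTheory.SeparableClosure

/-! # Normal forms over strict henselizations and the type invariant -/

set_option autoImplicit false
set_option linter.style.haveILetI false

open TensorProduct Matrix CategoryTheory

universe u v w w' x y z

namespace Groth.Agent.AzInvLib

open Groth.Agent.Hensel Groth.Agent.CSA

/-- an etale algebra with a prime over the point has a point in a separably closed field -/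
theorem exists_point_of_prime {C : Type u} [CommRing C] {K : Type x} [Field K] [IsSepClosed K] [Algebra C K]
    (E : Type u) [CommRing E] [Algebra C E] [Algebra.Etale C E] (M : PrimeSpectrum E)
    (hM : PrimeSpectrum.comap (algebraMap C E) M =
      ⟨RingHom.ker (algebraMap C K), RingHom.ker_isPrime _⟩) :
    Nonempty (E →ₐ[C] K) := by
  haveI : Nontrivial (K ⊗[C] E) := by
    have hMk : ∀ c, algebraMap C E c ∈ M.asIdeal ↔ algebraMap C K c = 0 := fun c => by
      have := congrArg PrimeSpectrum.asIdeal hM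
      show c ∈ (PrimeSpectrum.comap (algebraMap C E) M).asIdeal ↔ c ∈ RingHom.ker (algebraMap C K)
      rw [this]
    -- a common field extension of the two residue fields
    let p := RingHom.ker (algebraMap C K)
    haveI : p.IsPrime := RingHom.ker_isPrime _
    haveI : M.asIdeal.LiesOver p := ⟨by
      ext c; exact ((hMk c).trans RingHom.mem_ker.symm).symm⟩
    letI := Localization.AtPrime.algebraOfLiesOver p M.asIdeal
    letI : Algebra p.ResidueField K := (Ideal.ResidueField.lift p (algebraMap C K) le_rfl (fun c hc =>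
      isUnit_iff_ne_zero.2 hc)).toAlgebra
    haveI : IsScalarTower C p.ResidueField K := IsScalarTower.of_algebraMap_eq fun c =>
      (Ideal.ResidueField.lift_algebraMap p _ _ _ c).symm
    haveI : Nontrivial (K ⊗[p.ResidueField] M.asIdeal.ResidueField) := inferInstance
    let g : K ⊗[C] E →ₐ[C] K ⊗[p.ResidueField] M.asIdeal.ResidueField :=
      Algebra.TensorProduct.lift
        ((Algebra.TensorProduct.includeLeft :
          K →ₐ[p.ResidueField] K ⊗[p.ResidueField] M.asIdeal.ResidueField).restrictScalars C)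
        (((Algebra.TensorProduct.includeRight :
          M.asIdeal.ResidueField →ₐ[p.ResidueField] K ⊗[p.ResidueField] M.asIdeal.ResidueField).restrictScalars C).comp
            (IsScalarTower.toAlgHom C E M.asIdeal.ResidueField))
        fun _ _ => Commute.all _ _
    exact g.toRingHom.domain_nontrivial
  obtain ⟨Q, hQ⟩ := Ideal.exists_maximal (K ⊗[C] E)
  letI : Field ((K ⊗[C] E) ⧸ Q) := Ideal.Quotient.field Q
  let s : K ⊗[C] E →ₐ[K] (K ⊗[C] E) ⧸ Q := Ideal.Quotient.mkₐ K Q
  have hs : ∀ x, s x ∈ (⊥ : Subalgebra K ((K ⊗[C] E) ⧸ Q)) := fun x => by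
    obtain ⟨c, hc⟩ := exists_algebraMap_eq_of_unramified s x
    exact Algebra.mem_bot.2 ⟨c, hc⟩
  exact ⟨((((Algebra.botEquivOfInjective (R := K) (A := (K ⊗[C] E) ⧸ Q)
    (RingHom.injective _)).toAlgHom.comp (s.codRestrict ⊥ hs))).restrictScalars C).comp
      Algebra.TensorProduct.includeRight⟩

/-- an etale faithfully flat algebra has a point in a separably closed field -/
theorem exists_point {C : Type u} [CommRing C] {K : Type x} [Field K] [IsSepClosed K] [Algebra C K]
    (E : Type u) [CommRing E] [Algebra C E] [Algebra.Etale C E] [Module.FaithfullyFlat C E] :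
    Nonempty (E →ₐ[C] K) := by
  obtain ⟨M, hM⟩ := PrimeSpectrum.comap_surjective_of_faithfullyFlat (A := C) (B := E)
    ⟨RingHom.ker (algebraMap C K), RingHom.ker_isPrime _⟩
  exact exists_point_of_prime E M hM

variable {S : Type u} [CommRing S]

/-- units of the strict henselization are squares -/
theorem exists_sqrt_hens
    (hsq : ∀ (S₁ : Type u) [CommRing S₁] [Algebra S S₁] [Algebra.Etale S S₁] (x : S₁ˣ),
      ∃ (S₂ : Type u) (_ : CommRing S₂) (_ : Algebra S₁ S₂) (_ : Algebra.Etale S₁ S₂)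
        (_ : Module.FaithfullyFlat S₁ S₂) (y : S₂), y * y = algebraMap S₁ S₂ ↑x)
    (K : Type u) [Field K] [IsSepClosed K] [Algebra S K] (c : (Hens S K)ˣ) :
    ∃ y : Hens S K, y * y = c := by
  obtain ⟨X, a, ha⟩ := Hens.exists_rep_fintype (R := S) (K := K)
    (fun b : Bool => if b then (c : Hens S K) else (↑c⁻¹ : Hens S K))
  obtain ⟨Y, f, hf⟩ := (Hens.of_eq_iff (a true * a false) 1).1 (by
    rw [map_mul, map_one, ha, ha]; simp)
  rw [map_mul, map_one] at hf
  obtain ⟨S₂, i1, i2, i3, i4, y, hy⟩ := hsq Y.carrier ⟨f.1 (a true), f.1 (a false), hf, by rw [mul_comm]; exact hf⟩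
  letI := Y.point.toRingHom.toAlgebra
  obtain ⟨σ₀⟩ := exists_point (C := Y.carrier) (K := K) S₂
  letI : Algebra S S₂ := ((algebraMap Y.carrier S₂).comp (algebraMap S Y.carrier)).toAlgebra
  haveI : IsScalarTower S Y.carrier S₂ := IsScalarTower.of_algebraMap_eq fun _ => rfl
  haveI : Algebra.Etale S S₂ := Algebra.Etale.comp S Y.carrier S₂
  let σ : S₂ →ₐ[S] K := AlgHom.mk σ₀.toRingHom fun s => (σ₀.commutes (algebraMap S Y.carrier s)).trans
    (Y.point.commutes s)
  let g : Y ⟶ Nbhd.mk' S₂ σ := Nbhd.homMk' (IsScalarTower.toAlgHom S Y.carrier S₂) fun z => σ₀.commutes z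
  refine ⟨Hens.of (Nbhd.mk' S₂ σ) ((Nbhd.equiv S₂ σ).symm y), ?_⟩
  rw [← map_mul, ← map_mul, hy]
  calc Hens.of (Nbhd.mk' S₂ σ) ((Nbhd.equiv S₂ σ).symm (algebraMap Y.carrier S₂ (f.1 (a true))))
      = Hens.of (Nbhd.mk' S₂ σ) (g.1 (f.1 (a true))) := rfl
    _ = Hens.of X (a true) := by rw [Hens.of_hom g, Hens.of_hom]
    _ = _ := by rw [ha]; simp

section

variable {R : Type v} [CommRing R] [Algebra S R] {A : Type w} [Ring A] [Algebra R A] [IsAzumaya R A]

/-- a splitting over the strict henselization -/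
theorem exists_split_hens [Algebra.IsIntegral S R] (n : ℕ) (hn : n ≠ 0)
    (hrk : ∀ q : PrimeSpectrum R, Module.rankAtStalk (R := R) A q = n ^ 2)
    (K : Type u) [Field K] [IsSepClosed K] [Algebra S K] :
    Nonempty (A →ₐ[R] Matrix (Fin n) (Fin n) (R ⊗[S] Hens S K)) := by
  obtain ⟨S', i1, i2, het, hff, ⟨ψ⟩⟩ := exists_etale_base_split_univ S R A n hn hrk
  haveI := het
  haveI := hff
  obtain ⟨σ⟩ := exists_point (C := S) (K := K) S'
  obtain ⟨φ, -⟩ := Hens.exists_algHom S' σ
  exact ⟨(Algebra.TensorProduct.map (AlgHom.id R R) φ).mapMatrix.comp ψ⟩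

/-- the normal form at a prime of the base -/
theorem normal_form_hens (lam : R ≃ₐ[S] R) (hlam : ∀ r, lam (lam r) = r)
    (hfix : RInv.IsFixedRing S R lam.toRingEquiv)
    (hsq : ∀ (S₁ : Type u) [CommRing S₁] [Algebra S S₁] [Algebra.Etale S S₁] (x : S₁ˣ),
      ∃ (S₂ : Type u) (_ : CommRing S₂) (_ : Algebra S₁ S₂) (_ : Algebra.Etale S₁ S₂)
        (_ : Module.FaithfullyFlat S₁ S₂) (y : S₂), y * y = algebraMap S₁ S₂ ↑x)
    (n : ℕ) (hn : 0 < n) (hrk : ∀ q : PrimeSpectrum R, Module.rankAtStalk (R := R) A q = n ^ 2)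
    (hcond : IsUnit (2 : S) ∨ RInv.IsQuadEtale S R ∨ Odd n) (t : AzInv.LamInv R A lam)
    (K : Type u) [Field K] [IsSepClosed K] [Algebra S K] :
    (∃ ψ, IsModel t (muT (Hens S K) lam) (1 : Matrix (Fin n) (Fin n) (R ⊗[S] Hens S K)) ψ) ∨
    (IsUnit (2 : R ⊗[S] Hens S K) ∧ Even n ∧
      (∀ d : R ⊗[S] Hens S K, muT (Hens S K) lam d = -d → ¬ IsUnit d) ∧
      ∃ ψ, IsModel t (muT (Hens S K) lam) (skewStd (R ⊗[S] Hens S K) n) ψ) := by
  haveI := isIntegral_of_isFixedRing lam hlam hfix
  obtain ⟨ψ₀⟩ := exists_split_hens (S := S) (R := R) (A := A) n hn.ne' hrk K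
  exact exists_normal_form (Hens S K) lam hlam hfix (exists_sqrt_hens hsq K) n hn hrk hcond t ψ₀

end

theorem skewStd_mul_neg (B : Type x) [CommRing B] (n : ℕ) (hn : Even n) :
    skewStd B n * (-skewStd B n) = 1 := by
  ext i j
  have hpair : ∀ i : Fin n, ∃ k : Fin n, (Even (i : ℕ) ∧ (k : ℕ) = i + 1) ∨
      (¬ Even (i : ℕ) ∧ (i : ℕ) = k + 1) := fun i => by
    rcases Nat.even_or_odd (i : ℕ) with he | ho
    · refine ⟨⟨i + 1, ?_⟩, Or.inl ⟨he, rfl⟩⟩
      have hi : (i : ℕ) < n := i.2
      obtain ⟨a, ha⟩ := he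
      obtain ⟨b, hb⟩ := hn
      omega
    · refine ⟨⟨i - 1, by omega⟩, Or.inr ⟨Nat.not_even_iff_odd.2 ho, ?_⟩⟩
      obtain ⟨a, ha⟩ := ho
      show (i : ℕ) = (i : ℕ) - 1 + 1
      omega
  obtain ⟨k, hk⟩ := hpair i
  rw [Matrix.mul_apply, Finset.sum_eq_single k]
  · simp only [Matrix.neg_apply, skewStd, Matrix.of_apply, Matrix.one_apply]
    rcases hk with ⟨he, hk⟩ | ⟨ho, hk⟩
    · have hko : ¬ Even (k : ℕ) := by rw [hk]; simpa [Nat.even_add_one] using he
      rw [if_pos ⟨hk, he⟩, if_neg (by rintro ⟨-, h⟩; exact hko h)]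
      by_cases hij : i = j
      · subst hij; rw [if_pos ⟨hk, he⟩, if_pos rfl]; ring
      · rw [if_neg fun h => hij (Fin.ext (by omega)), if_neg hij]; ring
    · have hke : Even (k : ℕ) := by
        rw [hk, Nat.even_add_one, not_not] at ho; exact ho
      rw [if_neg fun h => ho h.2, if_pos ⟨hk, hke⟩]
      by_cases hij : i = j
      · subst hij; rw [if_pos ⟨hk, hke⟩, if_pos rfl]; ring
      · rw [if_neg fun h : (j : ℕ) = k + 1 ∧ Even (k : ℕ) => hij (Fin.ext (by omega)),
          if_neg fun h : (k : ℕ) = j + 1 ∧ Even (j : ℕ) => absurd hke (by rw [h.1, Nat.even_add_one]; simpa using h.2),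
          if_neg hij]; ring
  · intro l _ hl
    simp only [skewStd, Matrix.of_apply]
    rw [if_neg, if_neg, zero_mul]
    · rintro ⟨h1, h2⟩
      rcases hk with ⟨he, hk⟩ | ⟨ho, hk⟩
      · rw [h1, Nat.even_add_one] at he; exact he h2
      · exact hl (Fin.ext (by omega))
    · rintro ⟨h1, h2⟩
      rcases hk with ⟨he, hk⟩ | ⟨ho, hk⟩
      · exact hl (Fin.ext (by omega))
      · exact ho h2
  · simp

theorem isUnit_skewStd (B : Type x) [CommRing B] : ∀ n : ℕ, Even n → IsUnit (skewStd B n) :=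
  fun n hn => IsUnit.of_mul_eq_one _ (skewStd_mul_neg B n hn)

theorem skewStd_transpose (B : Type x) [CommRing B] (n : ℕ) : (skewStd B n)ᵀ = -skewStd B n := by
  ext i j
  simp only [Matrix.transpose_apply, Matrix.neg_apply, skewStd, Matrix.of_apply]
  split_ifs with h1 h2 h3 h4 <;> first | omega | simp

theorem skewStd_map' {B : Type x} [CommRing B] {B' : Type y} [CommRing B'] (f : B →+* B') (n : ℕ) :
    (skewStd B n).map f = skewStd B' n := by
  ext i j
  simp only [skewStd, Matrix.map_apply, Matrix.of_apply]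
  split_ifs <;> simp

section invariant

variable {R : Type v} [CommRing R] {A : Type w} [Ring A] [Algebra R A] {lam : R → R}
  {t : AzInv.LamInv R A lam}

/-- the model of the matrix involution -/
noncomputable def matModel {k : Type x} [CommRing k] [Algebra R k] {ι : Type z} [Fintype ι] [DecidableEq ι]
    (ψ : A →ₐ[R] Matrix ι ι k) (m : ℕ) :
    Matrix (Fin m) (Fin m) A →ₐ[R] Matrix (Fin m × ι) (Fin m × ι) k :=
  (Matrix.compAlgEquiv (Fin m) ι k R).toAlgHom.comp ψ.mapMatrix

theorem matModel_isModel {k : Type x} [CommRing k] [Algebra R k] {ν : k → k} {ι : Type z} [Fintype ι]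
    [DecidableEq ι] {W : Matrix ι ι k} {ψ : A →ₐ[R] Matrix ι ι k} (h : IsModel t ν W ψ) (m : ℕ) :
    IsModel (t.matrix (Fin m)) ν
      (Matrix.compAlgEquiv (Fin m) ι k R (Matrix.diagonal fun _ => W)) (matModel ψ m) := by
  intro X
  have h1 : AzInv.lamTr ν (matModel ψ m X) =
      Matrix.compAlgEquiv (Fin m) ι k R (Matrix.of fun i j => AzInv.lamTr ν (ψ (X j i))) := by
    ext ⟨i, p⟩ ⟨j, q⟩; rfl
  rw [h1, matModel, AlgHom.comp_apply, AlgEquiv.coe_toAlgHom, ← map_mul, ← map_mul]
  congr 1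
  ext1 i j
  rw [Matrix.mul_diagonal, Matrix.diagonal_mul]
  exact h (X j i)

theorem span_matModel {K : Type x} [Field K] [Algebra R K] {ι : Type z} [Fintype ι] [DecidableEq ι]
    {ψ : A →ₐ[R] Matrix ι ι K} (h : Submodule.span K (Set.range ψ) = ⊤) (m : ℕ) :
    Submodule.span K (Set.range (matModel ψ m)) = ⊤ := by
  rw [← (Matrix.stdBasis K (Fin m × ι) (Fin m × ι)).span_eq, eq_comm]
  refine le_antisymm ?_ (by rw [(Matrix.stdBasis K _ _).span_eq]; exact le_top)
  rw [Submodule.span_le]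
  rintro _ ⟨⟨⟨i, p⟩, j, q⟩, rfl⟩
  rw [Matrix.stdBasis_eq_single]
  let L : Matrix ι ι K →ₗ[K] Matrix (Fin m × ι) (Fin m × ι) K :=
    { toFun := fun M => Matrix.of fun a b => if a.1 = i ∧ b.1 = j then M a.2 b.2 else 0
      map_add' := fun M N => by ext a b; simp only [Matrix.of_apply, Matrix.add_apply]; split_ifs <;> simp
      map_smul' := fun c M => by ext a b; simp }
  have hle : Submodule.span K (Set.range ψ) ≤ Submodule.comap L (Submodule.span K (Set.range (matModel ψ m))) :=
    Submodule.span_le.2 fun _ ⟨a, ha⟩ => by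
      refine Submodule.subset_span ⟨Matrix.single i j a, ?_⟩
      subst ha
      ext ⟨a₁, a₂⟩ ⟨b₁, b₂⟩
      show ψ (Matrix.single i j a a₁ b₁) a₂ b₂ = if a₁ = i ∧ b₁ = j then ψ a a₂ b₂ else 0
      rw [Matrix.single_apply]
      by_cases hc : i = a₁ ∧ j = b₁
      · rw [if_pos hc, if_pos ⟨hc.1.symm, hc.2.symm⟩]
      · rw [if_neg hc, if_neg (fun h => hc ⟨h.1.symm, h.2.symm⟩), map_zero]; rfl
  have h2 : Matrix.single p q (1 : K) ∈ Submodule.span K (Set.range ψ) := h ▸ Submodule.mem_top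
  have h3 : Matrix.single (i, p) (j, q) (1 : K) = L (Matrix.single p q 1) := by
    ext ⟨a₁, a₂⟩ ⟨b₁, b₂⟩
    simp only [L, LinearMap.coe_mk, AddHom.coe_mk, Matrix.of_apply, Matrix.single_apply, Prod.mk.injEq]
    split_ifs <;> simp_all
  rw [h3]
  exact hle h2

theorem span_of_bijective {K : Type x} [Field K] [Algebra R K] {ι : Type z} [Fintype ι] [DecidableEq ι]
    {ψ : A →ₐ[R] Matrix ι ι K}
    (h : Function.Surjective (Algebra.TensorProduct.lift (Algebra.ofId K (Matrix ι ι K)) ψ
      fun b a => Algebra.commutes b (ψ a))) : Submodule.span K (Set.range ψ) = ⊤ := by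
  rw [eq_top_iff]
  rintro M -
  obtain ⟨z, rfl⟩ := h M
  induction z using TensorProduct.induction_on with
  | zero => simp
  | add a b ha hb => rw [map_add]; exact add_mem ha hb
  | tmul c a =>
    rw [Algebra.TensorProduct.lift_tmul, Algebra.ofId_apply, ← Algebra.smul_def]
    exact Submodule.smul_mem _ _ (Submodule.subset_span ⟨a, rfl⟩)

theorem bijective_matModel {K : Type x} [Field K] [Algebra R K] {n : ℕ}
    {ψ : A →ₐ[R] Matrix (Fin n) (Fin n) K}
    (h : Function.Bijective (Algebra.TensorProduct.lift (Algebra.ofId K (Matrix (Fin n) (Fin n) K)) ψ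
      fun b a => Algebra.commutes b (ψ a))) (m : ℕ) :
    Function.Bijective (Algebra.TensorProduct.lift
      (Algebra.ofId K (Matrix (Fin m × Fin n) (Fin m × Fin n) K)) (matModel ψ m)
      fun b a => Algebra.commutes b (matModel ψ m a)) := by
  set L := Algebra.TensorProduct.lift
      (Algebra.ofId K (Matrix (Fin m × Fin n) (Fin m × Fin n) K)) (matModel ψ m)
      fun b a => Algebra.commutes b (matModel ψ m a)
  have hsurj : Function.Surjective L.toLinearMap := by
    rw [← LinearMap.range_eq_top, eq_top_iff, ← span_matModel (span_of_bijective h.2) m, Submodule.span_le]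
    rintro _ ⟨X, rfl⟩
    exact ⟨1 ⊗ₜ X, by simp [L]⟩
  let eA : K ⊗[R] A ≃ₗ[K] Matrix (Fin n) (Fin n) K := LinearEquiv.ofBijective _ h
  let curryM : Matrix (Fin m) (Fin m) A ≃ₗ[R] (Fin m × Fin m → A) :=
    { toFun := fun M q => M q.1 q.2
      invFun := fun f => Matrix.of fun i j => f (i, j)
      map_add' := fun _ _ => rfl
      map_smul' := fun _ _ => rfl
      left_inv := fun _ => rfl
      right_inv := fun _ => rfl }
  let e : K ⊗[R] Matrix (Fin m) (Fin m) A ≃ₗ[K] (Fin m × Fin m → Matrix (Fin n) (Fin n) K) :=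
    (LinearEquiv.baseChange R K _ _ curryM) ≪≫ₗ TensorProduct.piRight R K K (fun _ : Fin m × Fin m => A) ≪≫ₗ
      LinearEquiv.piCongrRight fun _ => eA
  haveI : Module.Finite K (K ⊗[R] Matrix (Fin m) (Fin m) A) := Module.Finite.equiv e.symm
  refine ⟨(LinearMap.injective_iff_surjective_of_finrank_eq_finrank ?_).2 hsurj, hsurj⟩
  rw [e.finrank_eq, Module.finrank_pi_fintype, Module.finrank_matrix, Module.finrank_matrix]
  simp [Module.finrank_self]
  ring

end invariant

section sameType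

variable {R : Type v} [CommRing R] [Algebra S R] {lam : R ≃ₐ[S] R}
  {A : Type w} [Ring A] [Algebra S A] [Algebra R A] [IsScalarTower S R A]
  {A' : Type w'} [Ring A'] [Algebra S A'] [Algebra R A'] [IsScalarTower S R A']
  {t : AzInv.LamInv R A lam} {t' : AzInv.LamInv R A' lam}

/-- involutions of the same type do not have models of opposite symmetry -/
theorem not_sameType_of_models {K : Type x} [Field K] [IsSepClosed K] [Algebra R K] [Algebra S K]
    [IsScalarTower S R K] (h2 : (2 : K) ≠ 0) {n n' : ℕ} (hn : 0 < n) (hn' : 0 < n')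
    {W : Matrix (Fin n) (Fin n) K} (hW : IsUnit W) (hWs : Wᵀ = W) {ψ : A →ₐ[R] Matrix (Fin n) (Fin n) K}
    (hψ : IsModel t id W ψ)
    (hbij : Function.Bijective (Algebra.TensorProduct.lift (Algebra.ofId K (Matrix (Fin n) (Fin n) K)) ψ
      fun b a => Algebra.commutes b (ψ a)))
    {W' : Matrix (Fin n') (Fin n') K} (hW' : IsUnit W') (hWs' : W'ᵀ = -W')
    {ψ' : A' →ₐ[R] Matrix (Fin n') (Fin n') K} (hψ' : IsModel t' id W' ψ')
    (hspan : Submodule.span K (Set.range ψ') = ⊤) : ¬ AzInv.SameType S lam t t' := by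
  rintro ⟨m, m', hm, hm', S', i1, i2, i3, i4, f, hfR, hft⟩
  haveI : Nonempty (Fin m × Fin n) := ⟨(⟨0, hm⟩, ⟨0, hn⟩)⟩
  haveI : Nonempty (Fin m' × Fin n') := ⟨(⟨0, hm'⟩, ⟨0, hn'⟩)⟩
  obtain ⟨σ⟩ := exists_point (C := S) (K := K) S'
  let Ψ := matModel ψ' m'
  let D' := Matrix.compAlgEquiv (Fin m') (Fin n') K R (Matrix.diagonal fun _ => W')
  let Φ : S' ⊗[S] Matrix (Fin m') (Fin m') A' →ₐ[S] Matrix (Fin m' × Fin n') (Fin m' × Fin n') K :=
    Algebra.TensorProduct.lift ((IsScalarTower.toAlgHom S K _).comp σ) (Ψ.restrictScalars S)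
      fun s X => Algebra.commutes (σ s) (Ψ X)
  have hΦ : ∀ s X, Φ (s ⊗ₜ[S] X) = σ s • Ψ X := fun s X => by
    simp [Φ, Algebra.smul_def]
  have hΦsmul : ∀ (s : S') y, Φ (s • y) = σ s • Φ y := fun s y => by
    induction y using TensorProduct.induction_on with
    | zero => simp
    | add a b ha hb => simp only [smul_add, map_add, ha, hb]
    | tmul s' X => rw [TensorProduct.smul_tmul', hΦ, hΦ, smul_eq_mul, map_mul, smul_smul]
  let χ₀ : Matrix (Fin m) (Fin m) A →+* Matrix (Fin m' × Fin n') (Fin m' × Fin n') K :=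
    Φ.toRingHom.comp (f.toAlgHom.toRingHom.comp
      (Algebra.TensorProduct.includeRight :
        Matrix (Fin m) (Fin m) A →ₐ[S] S' ⊗[S] Matrix (Fin m) (Fin m) A).toRingHom)
  let χ : Matrix (Fin m) (Fin m) A →ₐ[R] Matrix (Fin m' × Fin n') (Fin m' × Fin n') K :=
    { toRingHom := χ₀
      commutes' := fun r => by
        show Φ (f ((1 : S') ⊗ₜ[S] algebraMap R _ r)) = _
        have h := hfR r 1
        rw [mul_one, map_one, mul_one] at h
        rw [h, hΦ, map_one, one_smul, AlgHom.commutes] }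
  have hχmodel : IsModel (t.matrix (Fin m)) id D' χ := fun X => by
    show Φ (f ((1 : S') ⊗ₜ[S] t.matrix (Fin m) X)) * D' = D' * AzInv.lamTr id (Φ (f ((1 : S') ⊗ₜ[S] X)))
    rw [← AzInv.LamInv.bc_tmul, hft]
    generalize f ((1 : S') ⊗ₜ[S] X) = y
    induction y using TensorProduct.induction_on with
    | zero =>
      have h0 : AzInv.lamTr id (0 : Matrix (Fin m' × Fin n') (Fin m' × Fin n') K) = 0 := by ext; simp
      simp [h0]
    | add a b ha hb =>
      have hadd : ∀ M N : Matrix (Fin m' × Fin n') (Fin m' × Fin n') K,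
          AzInv.lamTr id (M + N) = AzInv.lamTr id M + AzInv.lamTr id N := fun M N => by ext; simp
      rw [map_add, map_add, map_add, add_mul, ha, hb, hadd, mul_add]
    | tmul s X' =>
      have hsm : AzInv.lamTr id (σ s • Ψ X') = σ s • AzInv.lamTr id (Ψ X') := by ext; simp
      rw [AzInv.LamInv.bc_tmul, hΦ, hΦ, smul_mul_assoc, hsm, mul_smul_comm,
        matModel_isModel hψ' m' X']
  have hχspan : Submodule.span K (Set.range χ) = ⊤ := by
    rw [eq_top_iff, ← span_matModel hspan m', Submodule.span_le]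
    rintro _ ⟨X', rfl⟩
    obtain ⟨z, hz⟩ := f.surjective ((1 : S') ⊗ₜ[S] X')
    have : Φ ((1 : S') ⊗ₜ[S] X') ∈ Submodule.span K (Set.range χ) := by
      rw [← hz]
      clear hz
      induction z using TensorProduct.induction_on with
      | zero => simp
      | add a b ha hb => rw [map_add, map_add]; exact add_mem ha hb
      | tmul s X =>
        rw [← mul_one s, ← smul_eq_mul, ← TensorProduct.smul_tmul', map_smul, hΦsmul]
        exact Submodule.smul_mem _ _ (Submodule.subset_span ⟨X, rfl⟩)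
    rwa [hΦ, map_one, one_smul] at this
  refine no_sym_skew_models h2 (W := Matrix.compAlgEquiv (Fin m) (Fin n) K R (Matrix.diagonal fun _ => W))
    ?_ ?_ (matModel_isModel hψ m) (bijective_matModel hbij m) ?_ ?_ hχmodel hχspan
  · exact ((Pi.isUnit_iff.2 fun _ => hW).map (Matrix.diagonalRingHom (Fin m) (Matrix (Fin n) (Fin n) K))).map _
  · ext ⟨i, p⟩ ⟨j, q⟩
    show Matrix.diagonal (fun _ => W) j i q p = Matrix.diagonal (fun _ => W) i j p q
    rw [Matrix.diagonal_apply, Matrix.diagonal_apply]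
    by_cases h : i = j
    · subst h; simpa using congrFun (congrFun hWs p) q
    · rw [if_neg (Ne.symm h), if_neg h]; rfl
  · exact ((Pi.isUnit_iff.2 fun _ => hW').map (Matrix.diagonalRingHom (Fin m') (Matrix (Fin n') (Fin n') K))).map _
  · ext ⟨i, p⟩ ⟨j, q⟩
    show Matrix.diagonal (fun _ => W') j i q p = -(Matrix.diagonal (fun _ => W') i j p q)
    rw [Matrix.diagonal_apply, Matrix.diagonal_apply]
    by_cases h : i = j
    · subst h; simpa using congrFun (congrFun hWs' p) q
    · rw [if_neg (Ne.symm h), if_neg h]; simp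

end sameType

end Groth.Agent.AzInvLib
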