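import Groth.Agent.AzInvLib.Main
import Groth.Agent.CSA.InvBC

/-! # Type comparison results -/

set_option autoImplicit false
set_option linter.style.haveILetI false

open TensorProduct Matrix CategoryTheory

universe u v w w' x y z

namespace Groth.Agent.AzInvLib

open Groth.Agent.Hensel Groth.Agent.CSA

variable {S : Type u} [CommRing S] {R : Type v} [CommRing R] [Algebra S R] {lam : R ≃ₐ[S] R}

/-- transport of local isomorphy along a global isomorphism -/
theorem locIsoEt_left {A₀ : Type w} [Ring A₀] [Algebra S A₀] [Algebra R A₀] [IsScalarTower S R A₀]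
    {A : Type w} [Ring A] [Algebra S A] [Algebra R A] [IsScalarTower S R A]
    {A' : Type w'} [Ring A'] [Algebra S A'] [Algebra R A'] [IsScalarTower S R A']
    {t₀ : AzInv.LamInv R A₀ lam} {t : AzInv.LamInv R A lam} {t' : AzInv.LamInv R A' lam}
    (g : A₀ ≃ₐ[R] A) (hg : ∀ a, g (t₀ a) = t (g a)) (h : AzInv.LocIsoEt S lam t t') :
    AzInv.LocIsoEt S lam t₀ t' := by
  obtain ⟨S', i1, i2, i3, i4, f, hfR, hft⟩ := h
  refine ⟨S', i1, i2, i3, i4,
    (Algebra.TensorProduct.congr (AlgEquiv.refl : S' ≃ₐ[S'] S') (g.restrictScalars S)).trans f,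
    fun r x => ?_, fun x => ?_⟩
  · rw [AlgEquiv.trans_apply, AlgEquiv.trans_apply, map_mul,
      show Algebra.TensorProduct.congr (AlgEquiv.refl : S' ≃ₐ[S'] S') (g.restrictScalars S)
        ((1 : S') ⊗ₜ[S] algebraMap R A₀ r) = (1 : S') ⊗ₜ[S] algebraMap R A r by simp, hfR]
  · rw [AlgEquiv.trans_apply, AlgEquiv.trans_apply, ← hft]
    congr 1
    exact bc_congr t₀ S' t (g.restrictScalars S).toAlgHom hg x

variable {A : Type w} [Ring A] [Algebra S A] [Algebra R A] [IsScalarTower S R A]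
  {A' : Type w'} [Ring A'] [Algebra S A'] [Algebra R A'] [IsScalarTower S R A']

theorem sameType_symm {t : AzInv.LamInv R A lam} {t' : AzInv.LamInv R A' lam}
    (h : AzInv.SameType S lam t t') : AzInv.SameType S lam t' t := by
  obtain ⟨m, m', hm, hm', S', i1, i2, i3, i4, f, hfR, hft⟩ := h
  refine ⟨m', m, hm', hm, S', i1, i2, i3, i4, f.symm, fun r x => ?_, fun x => ?_⟩
  · apply f.injective
    rw [hfR, AlgEquiv.apply_symm_apply, AlgEquiv.apply_symm_apply]
  · apply f.injective
    rw [hft, AlgEquiv.apply_symm_apply, AlgEquiv.apply_symm_apply]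

theorem sameType_of_locIsoEt_transpose {A : Type w} [Ring A] [Algebra S A] [Algebra R A]
    [IsScalarTower S R A] (n : ℕ) (hn : 0 < n) (hlam : ∀ r, lam (lam r) = r)
    (t : AzInv.LamInv R A lam)
    (h : AzInv.LocIsoEt S lam t (AzInv.LamInv.transpose lam (Fin n) hlam)) :
    AzInv.SameType S lam t (AzInv.LamInv.self lam hlam) := by
  refine ⟨1, n, Nat.one_pos, hn, ?_⟩
  rw [show (AzInv.LamInv.self lam hlam).matrix (Fin n) = AzInv.LamInv.transpose lam (Fin n) hlam from
    AzInv.LamInv.ext fun M => by ext i j; rfl]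
  let g : Matrix (Fin 1) (Fin 1) A ≃ₐ[R] A :=
    { toFun := fun X => X 0 0
      invFun := fun a => Matrix.of fun _ _ => a
      left_inv := fun X => by ext i j; fin_cases i; fin_cases j; rfl
      right_inv := fun a => rfl
      map_mul' := fun X Y => by simp [Matrix.mul_apply]
      map_add' := fun X Y => rfl
      commutes' := fun r => by simp [Matrix.algebraMap_matrix_apply] }
  exact locIsoEt_left g (fun X => rfl) h

/-- residual models at a ramified point -/
theorem exists_residual {T : Type x} [CommRing T] [Algebra S T] [IsLocalRing T] [Module.Flat S T]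
    (hlam : ∀ r, lam (lam r) = r) (hfix : RInv.IsFixedRing S R lam.toRingEquiv)
    (hsqT : ∀ c : Tˣ, ∃ y : T, y * y = c) (h2 : IsUnit (2 : R ⊗[S] T))
    (hanti : ∀ d : R ⊗[S] T, muT T lam d = -d → ¬ IsUnit d) :
    ∃ (K : Type max v x) (_ : Field K) (_ : IsSepClosed K) (_ : Algebra R K) (_ : Algebra S K)
      (_ : IsScalarTower S R K) (g : R ⊗[S] T →ₐ[R] K),
      (2 : K) ≠ 0 ∧ (∀ b, g (muT T lam b) = g b) := by
  letI := starB T lam hlam
  have hgood := good T lam hlam hfix hsqT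
  haveI := hgood.nontriv
  obtain ⟨M, hM⟩ := Ideal.exists_maximal (R ⊗[S] T)
  letI : Field ((R ⊗[S] T) ⧸ M) := Ideal.Quotient.field M
  let K := AlgebraicClosure ((R ⊗[S] T) ⧸ M)
  let g : R ⊗[S] T →ₐ[R] K :=
    (IsScalarTower.toAlgHom R ((R ⊗[S] T) ⧸ M) K).comp (Ideal.Quotient.mkₐ R M)
  refine ⟨K, inferInstance, inferInstance, inferInstance, inferInstance, inferInstance, g, ?_, fun b => ?_⟩
  · have := (h2.map g).ne_zero
    simpa [map_ofNat] using this
  · have hd : b - muT T lam b ∈ Ideal.jacobson (⊥ : Ideal (R ⊗[S] T)) := by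
      exact hgood.anti_mem h2 hanti (show muT T lam (b - muT T lam b) = -(b - muT T lam b) by
        rw [map_sub, muT_muT T lam hlam, neg_sub])
    show algebraMap _ K (Ideal.Quotient.mk M _) = algebraMap _ K (Ideal.Quotient.mk M b)
    rw [show Ideal.Quotient.mk M (muT T lam b) = Ideal.Quotient.mk M b from
      (Ideal.Quotient.eq.2 ((sInf_le ⟨bot_le, hM⟩ : Ideal.jacobson (⊥ : Ideal (R ⊗[S] T)) ≤ M) hd)).symm]

omit [Algebra S A] [IsScalarTower S R A] in
theorem bijective_lift [IsAzumaya R A] {K : Type x} [Field K] [Algebra R K] {n : ℕ} (hn : 0 < n)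
    (hrk : ∀ q : PrimeSpectrum R, Module.rankAtStalk (R := R) A q = n ^ 2)
    (ψ : A →ₐ[R] Matrix (Fin n) (Fin n) K) :
    Function.Bijective (Algebra.TensorProduct.lift (Algebra.ofId K (Matrix (Fin n) (Fin n) K)) ψ
      fun b a => Algebra.commutes b (ψ a)) := by
  haveI : Nonempty (Fin n) := ⟨⟨0, hn⟩⟩
  haveI := CSA.isAzumaya_baseChange R K A
  haveI := CSA.isAzumaya_matrix K (Fin n)
  exact algHom_bijective_of_rankAtStalk_eq K _ fun P => by
    rw [Module.rankAtStalk_baseChange, hrk, rankAtStalk_matrix, Fintype.card_fin, pow_two]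

omit [Algebra S A] [IsScalarTower S R A] [Algebra S A'] [IsScalarTower S R A'] in
theorem hasPair_of_models {E : Type x} [CommRing E] [Algebra S E] {n : ℕ} {t : AzInv.LamInv R A lam}
    {t' : AzInv.LamInv R A' lam} {W : Matrix (Fin n) (Fin n) (R ⊗[S] E)} (hW : IsUnit W)
    {ψ : A →ₐ[R] Matrix (Fin n) (Fin n) (R ⊗[S] E)} (hψ : IsModel t (muT E lam) W ψ)
    {ψ' : A' →ₐ[R] Matrix (Fin n) (Fin n) (R ⊗[S] E)} (hψ' : IsModel t' (muT E lam) W ψ') :
    HasPair n t t' E := by
  obtain ⟨W, rfl⟩ := hW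
  exact ⟨W, ψ, ψ', hψ, hψ'⟩

/-- the `lam`-transpose on matrices has the identity as model -/
theorem transpose_model {E : Type x} [CommRing E] [Algebra S E] (n : ℕ)
    (hlam : ∀ r, lam (lam r) = r) :
    IsModel (AzInv.LamInv.transpose lam (Fin n) hlam) (muT E lam)
      (1 : Matrix (Fin n) (Fin n) (R ⊗[S] E)) (Algebra.ofId R (R ⊗[S] E)).mapMatrix := fun M => by
  rw [one_mul, mul_one]
  ext i j
  simp [muT, Algebra.TensorProduct.algebraMap_apply]

/-- two involutions of the same type are not of opposite symmetry at a strict henselization -/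
theorem false_of_mixed [IsAzumaya R A] [IsAzumaya R A'] {T : Type u} [CommRing T] [Algebra S T]
    [IsLocalRing T] [Module.Flat S T] (hlam : ∀ r, lam (lam r) = r)
    (hfix : RInv.IsFixedRing S R lam.toRingEquiv) (hsqT : ∀ c : Tˣ, ∃ y : T, y * y = c)
    {n n' : ℕ} (hn : 0 < n) (hn' : 0 < n') (hev : Even n')
    (hrk : ∀ q : PrimeSpectrum R, Module.rankAtStalk (R := R) A q = n ^ 2)
    (hrk' : ∀ q : PrimeSpectrum R, Module.rankAtStalk (R := R) A' q = n' ^ 2)
    {t : AzInv.LamInv R A lam} {t' : AzInv.LamInv R A' lam}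
    {ψ : A →ₐ[R] Matrix (Fin n) (Fin n) (R ⊗[S] T)}
    (hψ : IsModel t (muT T lam) (1 : Matrix (Fin n) (Fin n) (R ⊗[S] T)) ψ)
    (h2 : IsUnit (2 : R ⊗[S] T)) (hanti : ∀ d : R ⊗[S] T, muT T lam d = -d → ¬ IsUnit d)
    {ψ' : A' →ₐ[R] Matrix (Fin n') (Fin n') (R ⊗[S] T)}
    (hψ' : IsModel t' (muT T lam) (skewStd (R ⊗[S] T) n') ψ') :
    ¬ AzInv.SameType S lam t t' := by
  obtain ⟨K, iF, iS, iR, iA, iT, g, hK2, hg⟩ := exists_residual hlam hfix hsqT h2 hanti
  have h1 := hψ.map g (ν' := id) fun b => (hg b).symm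
  rw [map_one] at h1
  have h3 := hψ'.map g (ν' := id) fun b => (hg b).symm
  rw [AlgHom.mapMatrix_apply, show (skewStd (R ⊗[S] T) n').map g = skewStd K n' from
    skewStd_map' g.toRingHom n'] at h3
  exact not_sameType_of_models hK2 hn hn' isUnit_one Matrix.transpose_one h1
    (bijective_lift hn hrk _) (isUnit_skewStd K n' hev) (skewStd_transpose K n') h3
    (span_of_bijective (bijective_lift hn' hrk' _).2)

/-- if only the symmetric case occurs, the type is neutral -/
theorem sameType_self_of_all_sym [IsAzumaya R A] (hlam : ∀ r, lam (lam r) = r) {n : ℕ} (hn : 0 < n)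
    (hrk : ∀ q : PrimeSpectrum R, Module.rankAtStalk (R := R) A q = n ^ 2) (t : AzInv.LamInv R A lam)
    (h : ∀ p : PrimeSpectrum S, ∃ ψ, IsModel t (muT (Hens S (SeparableClosure p.asIdeal.ResidueField)) lam)
      (1 : Matrix (Fin n) (Fin n) (R ⊗[S] Hens S (SeparableClosure p.asIdeal.ResidueField))) ψ) :
    AzInv.SameType S lam t (AzInv.LamInv.self lam hlam) := by
  haveI : Nonempty (Fin n) := ⟨⟨0, hn⟩⟩
  haveI := CSA.isAzumaya_matrix R (Fin n)
  refine sameType_of_locIsoEt_transpose n hn hlam t (locIsoEt_of_forall_hens S hn.ne' hrk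
    (fun q => by rw [rankAtStalk_matrix, Fintype.card_fin, pow_two]) fun p => ?_)
  obtain ⟨ψ, hψ⟩ := h p
  exact hasPair_of_models isUnit_one hψ (transpose_model n hlam)

end Groth.Agent.AzInvLib
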